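import Mathlib
import Cfsg.Agent.Lib.H5.KleinPair

/-!
# The characteristic Klein four-subgroups of `A₄` and `S₄`
-/

set_option autoImplicit false
set_option linter.style.haveILetI false

namespace Cfsg.Agent.Lib.H5.KleinChar

set_option maxRecDepth 1000000 in
theorem v4S_mul : ∀ a b : Equiv.Perm (Fin 4), (a * a = 1 ∧ ∃ y : Equiv.Perm (Fin 4), y * y = a) →
    (b * b = 1 ∧ ∃ y : Equiv.Perm (Fin 4), y * y = b) →
    ((a * b) * (a * b) = 1 ∧ ∃ y : Equiv.Perm (Fin 4), y * y = a * b) := by decide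

set_option maxRecDepth 1000000 in
theorem v4S_inv : ∀ a : Equiv.Perm (Fin 4), (a * a = 1 ∧ ∃ y : Equiv.Perm (Fin 4), y * y = a) →
    (a⁻¹ * a⁻¹ = 1 ∧ ∃ y : Equiv.Perm (Fin 4), y * y = a⁻¹) := by decide

/-- the Klein four-subgroup of `S₄` -/
def v4S : Subgroup (Equiv.Perm (Fin 4)) where
  carrier := {g | g * g = 1 ∧ ∃ y : Equiv.Perm (Fin 4), y * y = g}
  mul_mem' := fun {a b} ha hb => v4S_mul a b ha hb
  one_mem' := ⟨by simp, 1, by simp⟩
  inv_mem' := fun {a} ha => v4S_inv a ha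

theorem mem_v4S (g : Equiv.Perm (Fin 4)) :
    g ∈ v4S ↔ g * g = 1 ∧ ∃ y : Equiv.Perm (Fin 4), y * y = g := Iff.rfl

instance decMemV4S : DecidablePred (· ∈ v4S) := fun g =>
  inferInstanceAs (Decidable (g * g = 1 ∧ ∃ y : Equiv.Perm (Fin 4), y * y = g))

set_option maxRecDepth 1000000 in
theorem card_v4S : Nat.card v4S = 4 := by
  rw [Nat.card_eq_fintype_card]
  decide

set_option maxRecDepth 1000000 in
theorem v4A_mul : ∀ a b : alternatingGroup (Fin 4), a * a = 1 → b * b = 1 →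
    (a * b) * (a * b) = 1 := by decide

/-- the Klein four-subgroup of `A₄` -/
def v4A : Subgroup (alternatingGroup (Fin 4)) where
  carrier := {g | g * g = 1}
  mul_mem' := fun {a b} ha hb => v4A_mul a b ha hb
  one_mem' := by simp
  inv_mem' := fun {a} ha => by
    show a⁻¹ * a⁻¹ = 1
    rw [← mul_inv_rev]
    have h : a * a = 1 := ha
    rw [h, inv_one]

theorem mem_v4A (g : alternatingGroup (Fin 4)) : g ∈ v4A ↔ g * g = 1 := Iff.rfl

instance decMemV4A : DecidablePred (· ∈ v4A) := fun g =>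
  inferInstanceAs (Decidable (g * g = 1))

set_option maxRecDepth 1000000 in
theorem card_v4A : Nat.card v4A = 4 := by
  rw [Nat.card_eq_fintype_card]
  decide

variable {G : Type*} [Group G]

/-- the characteristic Klein four-subgroup of a subgroup `S₄` -/
theorem exists_klein_char_S4 (H : Subgroup G) (e : H ≃* Equiv.Perm (Fin 4)) :
    ∃ V : Subgroup G, IsKleinFour V ∧ V ≤ H ∧
      ∀ h, h ∈ V ↔ h ∈ H ∧ h * h = 1 ∧ ∃ y ∈ H, y * y = h := by
  obtain ⟨V, hV⟩ : ∃ V : Subgroup G, V = (v4S.map e.symm.toMonoidHom).map H.subtype := ⟨_, rfl⟩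
  have hmem : ∀ h, h ∈ V ↔ h ∈ H ∧ h * h = 1 ∧ ∃ y ∈ H, y * y = h := by
    intro h
    rw [hV]
    constructor
    · rintro ⟨x, hx, rfl⟩
      rw [SetLike.mem_coe, Subgroup.mem_map_equiv, MulEquiv.symm_symm, mem_v4S] at hx
      obtain ⟨h1, y, hy⟩ := hx
      refine ⟨x.2, ?_, (e.symm y : G), (e.symm y).2, ?_⟩
      · have : x * x = 1 := by
          apply e.injective
          rw [map_mul, h1, map_one]
        exact congrArg Subtype.val this
      · have : e.symm y * e.symm y = x := by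
          apply e.injective
          rw [map_mul, MulEquiv.apply_symm_apply, hy]
        exact congrArg Subtype.val this
    · rintro ⟨hH, h1, y, hyH, hy⟩
      refine ⟨⟨h, hH⟩, ?_, rfl⟩
      rw [SetLike.mem_coe, Subgroup.mem_map_equiv, MulEquiv.symm_symm, mem_v4S]
      refine ⟨?_, e ⟨y, hyH⟩, ?_⟩
      · rw [← map_mul]
        have : (⟨h, hH⟩ : H) * ⟨h, hH⟩ = 1 := Subtype.ext h1
        rw [this, map_one]
      · rw [← map_mul]
        congr 1
        exact Subtype.ext hy
  have hcard : Nat.card V = 4 := by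
    rw [hV, Subgroup.card_map_of_injective H.subtype_injective,
      Subgroup.card_map_of_injective e.symm.injective, card_v4S]
  refine ⟨V, ?_, fun h hh => ((hmem h).mp hh).1, hmem⟩
  apply Cfsg.Agent.Lib.H5.KP.isKleinFour_of_card_sq hcard
  intro g
  exact Subtype.ext ((hmem g).mp g.2).2.1

/-- the characteristic Klein four-subgroup of a subgroup `A₄` -/
theorem exists_klein_char_A4 (H : Subgroup G) (e : H ≃* alternatingGroup (Fin 4)) :
    ∃ V : Subgroup G, IsKleinFour V ∧ V ≤ H ∧ ∀ h, h ∈ V ↔ h ∈ H ∧ h * h = 1 := by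
  obtain ⟨V, hV⟩ : ∃ V : Subgroup G, V = (v4A.map e.symm.toMonoidHom).map H.subtype := ⟨_, rfl⟩
  have hmem : ∀ h, h ∈ V ↔ h ∈ H ∧ h * h = 1 := by
    intro h
    rw [hV]
    constructor
    · rintro ⟨x, hx, rfl⟩
      rw [SetLike.mem_coe, Subgroup.mem_map_equiv, MulEquiv.symm_symm, mem_v4A] at hx
      refine ⟨x.2, ?_⟩
      have : x * x = 1 := by
        apply e.injective
        rw [map_mul, hx, map_one]
      exact congrArg Subtype.val this
    · rintro ⟨hH, h1⟩
      refine ⟨⟨h, hH⟩, ?_, rfl⟩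
      rw [SetLike.mem_coe, Subgroup.mem_map_equiv, MulEquiv.symm_symm, mem_v4A]
      rw [← map_mul]
      have : (⟨h, hH⟩ : H) * ⟨h, hH⟩ = 1 := Subtype.ext h1
      rw [this, map_one]
  have hcard : Nat.card V = 4 := by
    rw [hV, Subgroup.card_map_of_injective H.subtype_injective,
      Subgroup.card_map_of_injective e.symm.injective, card_v4A]
  refine ⟨V, ?_, fun h hh => ((hmem h).mp hh).1, hmem⟩
  apply Cfsg.Agent.Lib.H5.KP.isKleinFour_of_card_sq hcard
  intro g
  exact Subtype.ext ((hmem g).mp g.2).2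

end Cfsg.Agent.Lib.H5.KleinChar
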