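import Mathlib
import Cfsg.Agent.Lib.H5.DicksonFull
import Cfsg.Agent.Lib.H5.PSL2Solvable
import Cfsg.Agent.Lib.H5.PSL2MaxExc3
import Cfsg.Agent.Lib.H5.PSL2MaxSub
import Cfsg.Agent.Lib.H5.PGL2.KleinChar

/-!
# `A₄` is maximal in `PSL₂(p)` for `p ≡ ±3 (mod 8)`, `p ≢ ±1 (mod 10)`
-/

set_option autoImplicit false
set_option linter.style.haveILetI false

namespace Cfsg.Agent.Lib.H5.PGL2A4Max

open Matrix Cfsg.Agent.Lib.H5.PSL2Torus Cfsg.Agent.Lib.H5

set_option maxRecDepth 100000 in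
theorem alt4_pair : ∃ a b : Equiv.Perm (Fin 4), Equiv.Perm.sign a = 1 ∧ Equiv.Perm.sign b = 1 ∧
    a ^ 3 = 1 ∧ b ^ 3 = 1 ∧ a ≠ 1 ∧ b ≠ 1 ∧ a * b ≠ b * a := by decide

/-- `A₄` is not abelian -/
theorem alt4_not_comm : ∃ a b : alternatingGroup (Fin 4), a * b ≠ b * a := by
  obtain ⟨a, b, ha, hb, -, -, -, -, hab⟩ := alt4_pair
  refine ⟨⟨a, Equiv.Perm.mem_alternatingGroup.mpr ha⟩, ⟨b, Equiv.Perm.mem_alternatingGroup.mpr hb⟩,
    ?_⟩
  intro h
  exact hab (congrArg Subtype.val h)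

/-- `A₄` does not embed in a dihedral group -/
theorem not_embeds_dihedral (k : ℕ) (f : alternatingGroup (Fin 4) →* DihedralGroup k)
    (hf : Function.Injective f) : False := by
  obtain ⟨a, b, ha, hb, ha3, hb3, ha1, hb1, hab⟩ := alt4_pair
  obtain ⟨a', ha'⟩ : ∃ a' : alternatingGroup (Fin 4), (a' : Equiv.Perm (Fin 4)) = a :=
    ⟨⟨a, Equiv.Perm.mem_alternatingGroup.mpr ha⟩, rfl⟩
  obtain ⟨b', hb'⟩ : ∃ b' : alternatingGroup (Fin 4), (b' : Equiv.Perm (Fin 4)) = b :=
    ⟨⟨b, Equiv.Perm.mem_alternatingGroup.mpr hb⟩, rfl⟩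
  have key : ∀ c : alternatingGroup (Fin 4), c ^ 3 = 1 → c ≠ 1 → ∃ i, f c = DihedralGroup.r i := by
    intro c hc3 hc1
    rcases hd : f c with i | i
    · exact ⟨i, rfl⟩
    · exfalso
      apply hc1
      have h2 : f (c * c) = 1 := by rw [map_mul, hd, DihedralGroup.sr_mul_self]
      have h3 : c * c = 1 := hf (h2.trans (map_one f).symm)
      calc c = c ^ 3 * (c * c)⁻¹ := by group
        _ = 1 := by rw [hc3, h3]; simp
  obtain ⟨i, hi⟩ := key a' (Subtype.ext (by rw [Subgroup.coe_pow, ha', ha3]; rfl))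
    (fun h => ha1 (by rw [← ha', h]; rfl))
  obtain ⟨j, hj⟩ := key b' (Subtype.ext (by rw [Subgroup.coe_pow, hb', hb3]; rfl))
    (fun h => hb1 (by rw [← hb', h]; rfl))
  apply hab
  have h1 : f (a' * b') = f (b' * a') := by
    rw [map_mul, map_mul, hi, hj, DihedralGroup.r_mul_r, DihedralGroup.r_mul_r, add_comm]
  have h2 := congrArg Subtype.val (hf h1)
  rw [Subgroup.coe_mul, Subgroup.coe_mul, ha', hb'] at h2
  exact h2

variable {F : Type*} [Field F] [Fintype F]

local notation "SL2" => Matrix.SpecialLinearGroup (Fin 2) F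
local notation "M2" => Matrix (Fin 2) (Fin 2) F
local notation "PSL2" => Matrix.ProjectiveSpecialLinearGroup (Fin 2) F

/-- every subfield of a prime field is everything -/
theorem card_subfield_of_prime {p : ℕ} (hp : p.Prime) (hq : Fintype.card F = p) (S : Subfield F) :
    Nat.card S = p := by
  have h := PSL2MaxSub.card_pow_finrank S
  rw [hq] at h
  exact ((Nat.Prime.pow_eq_iff hp).mp h.symm).1

/-- **`A₄` is maximal in `PSL₂(p)`**, `p ≡ ±3 (mod 8)`, `p ≢ ±1 (mod 10)` -/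
theorem isCoatom_of_A4 (p : ℕ) [Fact p.Prime] [CharP F p] (hodd : Odd (Fintype.card F))
    (hq : Fintype.card F = p)
    (hmod : Fintype.card F % 8 = 3 ∨ Fintype.card F % 8 = 5)
    (h40 : Fintype.card F % 40 ∉ ({11, 19, 21, 29} : Finset ℕ))
    (H : Subgroup PSL2) (e : H ≃* alternatingGroup (Fin 4)) (hHt : H ≠ ⊤) : IsCoatom H := by
  have hpp : p.Prime := Fact.out
  refine ⟨hHt, fun K hlt => ?_⟩
  have hcH : Nat.card H = 12 := by rw [Nat.card_congr e.toEquiv, PSL2PrimeMax.card_alt_four]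
  have hG := PSL2PrimeMax.two_mul_card hodd
  have hdvdK : Nat.card K ∣ Nat.card PSL2 := Subgroup.card_subgroup_dvd_card K
  have hq2 : p % 2 = 1 := by
    rw [← hq]; exact Nat.odd_iff.mp hodd
  obtain ⟨V, hVK, hVle, -⟩ := KleinChar.exists_klein_char_A4 H e
  have hVnc : ¬ IsCyclic V := by
    haveI := hVK
    exact IsKleinFour.not_isCyclic
  rcases DicksonFull.classify_odd p hodd K with h | ⟨k, -, ⟨e₁⟩⟩ | ⟨⟨e₁⟩⟩ | ⟨⟨e₁⟩⟩ |
      ⟨⟨e₁⟩⟩ | ⟨-, P, hP⟩ | ⟨S, hS, -⟩ | ⟨S, hS, -⟩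
  · -- cyclic
    exfalso
    haveI := h.1
    obtain ⟨a, b, hab⟩ := alt4_not_comm
    apply hab
    have hx := hlt.le (e.symm a).2
    have hy := hlt.le (e.symm b).2
    letI := IsCyclic.commGroup (α := K)
    have h1 : (⟨_, hx⟩ : K) * ⟨_, hy⟩ = ⟨_, hy⟩ * ⟨_, hx⟩ := mul_comm _ _
    have h2 : ((e.symm a : H) : PSL2) * (e.symm b : H) = (e.symm b : H) * (e.symm a : H) :=
      congrArg Subtype.val h1
    have h3 : e.symm a * e.symm b = e.symm b * e.symm a := Subtype.ext h2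
    rw [← map_mul, ← map_mul] at h3
    exact e.symm.injective h3
  · -- dihedral
    exfalso
    apply not_embeds_dihedral k
      ((e₁.toMonoidHom.comp (Subgroup.inclusion hlt.le)).comp e.symm.toMonoidHom)
    exact (e₁.injective.comp (Subgroup.inclusion_injective hlt.le)).comp e.symm.injective
  · -- `A₄`
    exfalso
    have hcK : Nat.card K = 12 := by
      rw [Nat.card_congr e₁.toEquiv, PSL2PrimeMax.card_alt_four]
    exact hlt.ne (Subgroup.eq_of_le_of_card_ge hlt.le (by rw [hcK, hcH]))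
  · -- `S₄`
    exfalso
    have hcK : Nat.card K = 24 := by
      rw [Nat.card_congr e₁.toEquiv, PSL2PrimeMax.card_perm_four]
    rw [hcK] at hdvdK
    have h16 : 16 ∣ Fintype.card F * (Fintype.card F ^ 2 - 1) := by
      rw [← hG]
      obtain ⟨c, hc⟩ := hdvdK
      exact ⟨3 * c, by rw [hc]; ring⟩
    have hcop : Nat.Coprime 16 (Fintype.card F) := by
      have : Nat.Coprime (2 ^ 4) (Fintype.card F) :=
        Nat.Coprime.pow_left 4 (Nat.coprime_two_left.mpr hodd)
      simpa using this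
    have h16' : 16 ∣ Fintype.card F ^ 2 - 1 := hcop.dvd_of_dvd_mul_left h16
    have := PSL2MaxExc.mod_eight_of_sixteen_dvd (Nat.odd_iff.mp hodd) h16'
    omega
  · -- `A₅`
    have hcK : Nat.card K = 60 := by
      rw [Nat.card_congr e₁.toEquiv, PSL2PrimeMax.card_alt_five]
    rw [hcK] at hdvdK
    have h5 : 5 ∣ Fintype.card F * (Fintype.card F ^ 2 - 1) := by
      rw [← hG]
      obtain ⟨c, hc⟩ := hdvdK
      exact ⟨24 * c, by rw [hc]; ring⟩
    rcases (Nat.Prime.dvd_mul (by norm_num : Nat.Prime 5)).mp h5 with h | h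
    · -- `p = 5`
      rw [hq] at h
      have hp5 : p = 5 := ((Nat.prime_dvd_prime_iff_eq (by norm_num) hpp).mp h).symm
      rw [hq, hp5] at hG
      apply Subgroup.eq_top_of_card_eq
      rw [hcK]
      omega
    · exfalso
      have h1 : 1 ≤ Fintype.card F ^ 2 := Nat.one_le_pow _ _ Fintype.card_pos
      have h2 : Fintype.card F ^ 2 % 5 = 1 := by
        obtain ⟨c, hc⟩ := h
        omega
      have h3 : Fintype.card F % 5 = 1 ∨ Fintype.card F % 5 = 4 := by
        have h4 : Fintype.card F % 5 < 5 := Nat.mod_lt _ (by norm_num)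
        rw [Nat.pow_mod] at h2
        interval_cases (Fintype.card F % 5) <;> simp_all
      apply h40
      simp only [Finset.mem_insert, Finset.mem_singleton]
      omega
  · -- Borel
    exfalso
    apply hVnc
    apply PSL2Borel.isCyclic_of_le_normalizer p P V ((hVle.trans hlt.le).trans hP)
    rw [hVK.card_four]
    intro h
    have := Nat.le_of_dvd (by norm_num) h
    have h2 : p ∣ 2 ^ 2 := by simpa using h
    have := (Nat.prime_dvd_prime_iff_eq hpp Nat.prime_two).mp (hpp.dvd_of_dvd_pow h2)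
    omega
  · -- `PSL₂(S)`
    rw [card_subfield_of_prime hpp hq S, ← hq, ← hG] at hS
    apply Subgroup.eq_top_of_card_eq
    omega
  · -- `PGL₂(S)`
    exfalso
    rw [card_subfield_of_prime hpp hq S, ← hq, ← hG] at hS
    have hle : Nat.card K ≤ Nat.card PSL2 := Subgroup.card_le_card_group K
    have hpos : 0 < Nat.card PSL2 := Nat.card_pos
    omega

end Cfsg.Agent.Lib.H5.PGL2A4Max
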