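import Mathlib
import Cfsg.Agent.Lib.H5.SubgroupCard
import Cfsg.Agent.Lib.H5.PSL2PrimeMax
import Cfsg.Agent.Lib.H5.PSL2SubfieldPGL
import Cfsg.Agent.Lib.H1.DicksonBridge

/-!
# `PGL₂(q)` and its subgroup `PSL₂(q)`: basic facts for the maximal subgroups
-/

set_option autoImplicit false
set_option linter.style.haveILetI false

namespace Cfsg.Agent.Lib.H5.PGL2Basic

section Generic

variable {G : Type*} [Group G]

theorem sup_eq_top_of_isCoatom {M L : Subgroup G} (hM : IsCoatom M) (hML : ¬ L ≤ M) :
    M ⊔ L = ⊤ := by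
  by_contra h
  rcases eq_or_lt_of_le (le_sup_left : M ≤ M ⊔ L) with h2 | h2
  · apply hML
    rw [h2]
    exact le_sup_right
  · exact h (hM.2 _ h2)

theorem relIndex_inf_of_isCoatom {M L : Subgroup G} [L.Normal] (hM : IsCoatom M) (hML : ¬ L ≤ M) :
    (M ⊓ L).relIndex M = L.index := by
  rw [Subgroup.inf_relIndex_left, ← Subgroup.relIndex_sup_right, sup_eq_top_of_isCoatom hM hML,
    Subgroup.relIndex_top_right]

theorem card_eq_of_isCoatom {M L : Subgroup G} [L.Normal] (hM : IsCoatom M) (hML : ¬ L ≤ M)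
    (h2 : L.index = 2) : Nat.card M = 2 * Nat.card (M ⊓ L : Subgroup G) := by
  have h1 := Cfsg.Agent.Lib.H5.card_mul_relIndex_of_le (inf_le_left : M ⊓ L ≤ M)
  rw [relIndex_inf_of_isCoatom hM hML, h2] at h1
  omega

theorem conj_mem_inf {M L : Subgroup G} [hL : L.Normal] {m x : G} (hm : m ∈ M) (hx : x ∈ M ⊓ L) :
    m * x * m⁻¹ ∈ M ⊓ L :=
  ⟨M.mul_mem (M.mul_mem hm hx.1) (M.inv_mem hm), hL.conj_mem x hx.2 m⟩

theorem eq_normalizer_of_le {M : Subgroup G} (hM : IsCoatom M) (C : Subgroup G)
    (hMC : M ≤ Subgroup.normalizer (C : Set G)) (hC : Subgroup.normalizer (C : Set G) ≠ ⊤) :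
    M = Subgroup.normalizer (C : Set G) := by
  rcases eq_or_lt_of_le hMC with h | h
  · exact h
  · exact absurd (hM.2 _ h) hC

theorem mem_normalizer_of_forall_mem {C : Subgroup G} [Finite C] {m : G}
    (h : ∀ x ∈ C, m * x * m⁻¹ ∈ C) : m ∈ Subgroup.normalizer (C : Set G) := by
  have hinj : Function.Injective (fun x : C => (⟨m * x * m⁻¹, h x x.2⟩ : C)) := by
    intro x y hxy
    have := congrArg Subtype.val hxy
    simp only [mul_left_inj, mul_right_inj] at this
    exact Subtype.ext this
  have hsurj := Finite.surjective_of_injective hinj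
  rw [Subgroup.mem_normalizer_iff]
  intro y
  constructor
  · exact h y
  · intro hy
    obtain ⟨x, hx⟩ := hsurj ⟨_, hy⟩
    have := congrArg Subtype.val hx
    simp only [mul_left_inj, mul_right_inj] at this
    rw [← this]
    exact x.2

end Generic

section PGL

open Matrix Cfsg.Agent.Lib.H5.PSL2Torus Cfsg.Agent.Lib.H1.DicksonBridge

variable {F : Type*} [Field F]

local notation "SL2" => Matrix.SpecialLinearGroup (Fin 2) F
local notation "M2" => Matrix (Fin 2) (Fin 2) F
local notation "PSL2" => Matrix.ProjectiveSpecialLinearGroup (Fin 2) F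
local notation "PGL2" => Matrix.ProjGenLinGroup (Fin 2) F
local notation "GL2" => Matrix.GeneralLinearGroup (Fin 2) F

/-- the embedding of `PSL₂` in `PGL₂` -/
abbrev T : PSL2 →* PGL2 := Matrix.ProjectiveSpecialLinearGroup.toPGL

theorem T_injective : Function.Injective (T (F := F)) :=
  Matrix.ProjectiveSpecialLinearGroup.toPGL_injective

theorem T_pr (h : SL2) : T (pr h) = Matrix.ProjGenLinGroup.mk (Matrix.SpecialLinearGroup.toGL h) :=
  rfl

theorem range_eq : (Matrix.ProjGenLinGroup.mk.comp
    (Matrix.SpecialLinearGroup.toGL (n := Fin 2) (R := F))).range = (T (F := F)).range := by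
  ext x
  constructor
  · rintro ⟨h, rfl⟩
    exact ⟨pr h, rfl⟩
  · rintro ⟨y, rfl⟩
    obtain ⟨h, rfl⟩ := pr_surjective y
    exact ⟨h, rfl⟩

theorem toGL_cj (g : GL2) (h : SL2) :
    Matrix.SpecialLinearGroup.toGL (cj g h) = g * Matrix.SpecialLinearGroup.toGL h * g⁻¹ := by
  apply Units.ext
  rfl

theorem conj_T_pr (g : GL2) (h : SL2) :
    Matrix.ProjGenLinGroup.mk g * T (pr h) * (Matrix.ProjGenLinGroup.mk g)⁻¹ = T (pr (cj g h)) := by
  rw [T_pr, T_pr, toGL_cj, map_mul, map_mul, map_inv]

instance normal_range : (T (F := F)).range.Normal := by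
  constructor
  rintro _ ⟨y, rfl⟩ m
  obtain ⟨h, rfl⟩ := pr_surjective y
  induction m using Matrix.ProjGenLinGroup.induction_on with | mk g =>
  rw [conj_T_pr]
  exact ⟨_, rfl⟩

/-- the action of `PGL₂` on `PSL₂` by conjugation -/
noncomputable def autOf : PGL2 →* MulAut PSL2 where
  toFun m := ((MonoidHom.ofInjective (T_injective (F := F))).trans
    (MulAut.conjNormal (H := (T (F := F)).range) m)).trans
      (MonoidHom.ofInjective (T_injective (F := F))).symm
  map_one' := by
    ext x
    simp
  map_mul' m n := by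
    ext x
    simp

theorem T_autOf (m : PGL2) (x : PSL2) : T (autOf m x) = m * T x * m⁻¹ := by
  have h1 : ∀ y : (T (F := F)).range,
      T ((MonoidHom.ofInjective (T_injective (F := F))).symm y) = (y : PGL2) := by
    intro y
    have := (MonoidHom.ofInjective (T_injective (F := F))).apply_symm_apply y
    exact congrArg Subtype.val this
  show T ((MonoidHom.ofInjective (T_injective (F := F))).symm _) = _
  rw [h1]
  rfl

theorem autOf_mk_pr (g : GL2) (h : SL2) :
    autOf (Matrix.ProjGenLinGroup.mk g) (pr h) = pr (cj g h) := by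
  apply T_injective
  rw [T_autOf, conj_T_pr]

theorem autOf_T (y x : PSL2) : autOf (T y) x = y * x * y⁻¹ := by
  apply T_injective
  rw [T_autOf, map_mul, map_mul, map_inv]

/-- the normalizer in `PGL₂` of (the image of) a subgroup of `PSL₂` -/
def nrm (C : Subgroup PSL2) : Subgroup PGL2 :=
  Subgroup.normalizer ((C.map (T (F := F)) : Subgroup PGL2) : Set PGL2)

theorem mem_nrm_iff (C : Subgroup PSL2) (m : PGL2) :
    m ∈ nrm C ↔ ∀ x, x ∈ C ↔ autOf m x ∈ C := by
  unfold nrm
  rw [Subgroup.mem_normalizer_iff]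
  constructor
  · intro h x
    have := h (T x)
    rw [← T_autOf, Subgroup.mem_map_iff_mem T_injective, Subgroup.mem_map_iff_mem T_injective]
      at this
    exact this
  · intro h y
    by_cases hy : y ∈ (T (F := F)).range
    · obtain ⟨x, rfl⟩ := hy
      rw [← T_autOf, Subgroup.mem_map_iff_mem T_injective, Subgroup.mem_map_iff_mem T_injective]
      exact h x
    · constructor
      · intro h1
        exact absurd (Subgroup.map_le_range _ _ h1) hy
      · intro h1
        exfalso
        apply hy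
        have h2 := Subgroup.map_le_range _ _ h1
        have h3 := (normal_range (F := F)).conj_mem _ h2 m⁻¹
        have e : m⁻¹ * (m * y * m⁻¹) * m⁻¹⁻¹ = y := by group
        rwa [e] at h3

instance instFinitePGL [Finite F] : Finite PGL2 :=
  Finite.of_surjective _ (Matrix.ProjGenLinGroup.mk_surjective (n := Fin 2) (R := F))

theorem mem_nrm_of_forall [Finite F] (C : Subgroup PSL2) (m : PGL2)
    (h : ∀ x ∈ C, autOf m x ∈ C) : m ∈ nrm C := by
  unfold nrm
  apply mem_normalizer_of_forall_mem
  rintro _ ⟨x, hx, rfl⟩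
  rw [← T_autOf]
  exact Subgroup.mem_map_of_mem _ (h x hx)

theorem comap_nrm (C : Subgroup PSL2) :
    (nrm C).comap (T (F := F)) = Subgroup.normalizer (C : Set PSL2) := by
  ext y
  rw [Subgroup.mem_comap, mem_nrm_iff, Subgroup.mem_normalizer_iff]
  simp only [autOf_T]

theorem le_nrm_self (C : Subgroup PSL2) : C.map (T (F := F)) ≤ nrm C := Subgroup.le_normalizer

/-- for `C ≠ ⊥, ⊤` the normalizer of `C` is a proper subgroup -/
theorem nrm_ne_top [Finite F] (h4 : 4 ≤ Nat.card F) (C : Subgroup PSL2) (hb : C ≠ ⊥) (ht : C ≠ ⊤) :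
    nrm C ≠ ⊤ := by
  intro h
  haveI : IsSimpleGroup PSL2 := Matrix.ProjectiveSpecialLinearGroup.rank_two_simple h4
  have hn : (C.map (T (F := F))).Normal := Subgroup.normalizer_eq_top_iff.mp h
  have hn2 : ((C.map (T (F := F))).comap T).Normal := hn.comap T
  rw [Subgroup.comap_map_eq_self_of_injective T_injective] at hn2
  rcases hn2.eq_bot_or_eq_top with h | h
  · exact hb h
  · exact ht h

end PGL

section Finite

open Matrix Cfsg.Agent.Lib.H5.PSL2Torus

variable {F : Type*} [Field F] [Fintype F]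

local notation "PSL2" => Matrix.ProjectiveSpecialLinearGroup (Fin 2) F
local notation "PGL2" => Matrix.ProjGenLinGroup (Fin 2) F

omit [Fintype F] in
theorem card_range : Nat.card (T (F := F)).range = Nat.card PSL2 :=
  (Nat.card_congr (MonoidHom.ofInjective (T_injective (F := F))).toEquiv).symm

theorem index_range (hodd : Odd (Fintype.card F)) : (T (F := F)).range.index = 2 := by
  have h1 := (T (F := F)).range.card_mul_index
  rw [card_range, Cfsg.Agent.Lib.H5.PSL2Subfield.card_PGL] at h1
  have h2 := PSL2PrimeMax.two_mul_card hodd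
  have hpos : 0 < Nat.card PSL2 := Nat.card_pos
  have : Nat.card PSL2 * (T (F := F)).range.index = Nat.card PSL2 * 2 := by
    rw [h1, mul_comm _ 2, h2]
  exact Nat.eq_of_mul_eq_mul_left hpos this

end Finite

end Cfsg.Agent.Lib.H5.PGL2Basic
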