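import Mathlib
import Cfsg.Agent.Lib.H5.PGL2.Basic
import Cfsg.Agent.Lib.H5.PSL2MinSimple
import Cfsg.Agent.Lib.H5.PSL2KleinNorm

/-!
# Maximal subgroups of `PGL₂(q)` not containing `PSL₂(q)`: first consequences
-/

set_option autoImplicit false
set_option linter.style.haveILetI false

namespace Cfsg.Agent.Lib.H5.PGL2Ctx

open Matrix Cfsg.Agent.Lib.H5.PSL2Torus Cfsg.Agent.Lib.H5.PGL2Basic

variable {F : Type*} [Field F] [Fintype F]

local notation "SL2" => Matrix.SpecialLinearGroup (Fin 2) F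
local notation "M2" => Matrix (Fin 2) (Fin 2) F
local notation "PSL2" => Matrix.ProjectiveSpecialLinearGroup (Fin 2) F
local notation "PGL2" => Matrix.ProjGenLinGroup (Fin 2) F

variable (hodd : Odd (Fintype.card F)) (h3 : 3 < Fintype.card F)
  {M : Subgroup (Matrix.ProjGenLinGroup (Fin 2) F)} (hM : IsCoatom M)
  (hML : ¬ (T (F := F)).range ≤ M)

omit [Fintype F] in
theorem inf_range_eq (M : Subgroup PGL2) : M ⊓ (T (F := F)).range = (M.comap T).map T := by
  rw [Subgroup.map_comap_eq, inf_comm]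

include hodd hM hML in
/-- `|M| = 2 |M ∩ L|` -/
theorem card_eq : Nat.card M = 2 * Nat.card (M.comap (T (F := F))) := by
  have h := card_eq_of_isCoatom hM hML (index_range hodd)
  rw [inf_range_eq, Subgroup.card_map_of_injective T_injective] at h
  exact h

include hML in
theorem comap_ne_top : (M.comap (T (F := F)) : Subgroup PSL2) ≠ ⊤ := by
  intro h
  apply hML
  rintro _ ⟨x, rfl⟩
  have : x ∈ M.comap (T (F := F)) := by rw [h]; trivial
  exact this

/-- `M` acts on `M ∩ L` -/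
theorem autOf_mem {m : PGL2} (hm : m ∈ M) {x : PSL2}
    (hx : x ∈ (M.comap (T (F := F)) : Subgroup PSL2)) :
    autOf m x ∈ (M.comap (T (F := F)) : Subgroup PSL2) := by
  rw [Subgroup.mem_comap, T_autOf]
  exact M.mul_mem (M.mul_mem hm hx) (M.inv_mem hm)

include h3 hM in
/-- if `M` normalizes `C ≠ ⊥, ⊤` then `M` is the normalizer of `C` -/
theorem eq_nrm (C : Subgroup PSL2) (hb : C ≠ ⊥) (ht : C ≠ ⊤)
    (hinv : ∀ m ∈ M, ∀ x ∈ C, autOf m x ∈ C) : M = nrm C := by
  apply eq_normalizer_of_le hM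
  · intro m hm
    exact mem_nrm_of_forall C m (hinv m hm)
  · apply nrm_ne_top _ C hb ht
    rw [Nat.card_eq_fintype_card]
    omega

include h3 hM in
theorem comap_eq_normalizer (C : Subgroup PSL2) (hb : C ≠ ⊥) (ht : C ≠ ⊤)
    (hinv : ∀ m ∈ M, ∀ x ∈ C, autOf m x ∈ C) :
    M.comap (T (F := F)) = Subgroup.normalizer (C : Set PSL2) := by
  rw [← comap_nrm, ← eq_nrm h3 hM C hb ht hinv]

include hodd h3 hM hML in
/-- `M ∩ L` is not trivial -/
theorem comap_ne_bot : (M.comap (T (F := F)) : Subgroup PSL2) ≠ ⊥ := by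
  intro hb
  have hc := card_eq hodd hM hML
  rw [hb, Subgroup.card_bot] at hc
  haveI : Fact (Nat.Prime 2) := ⟨Nat.prime_two⟩
  have hMp : IsPGroup 2 M := IsPGroup.of_card (n := 1) (by rw [hc]; norm_num)
  obtain ⟨S, hS⟩ := hMp.exists_le_sylow
  have hG : Nat.card PGL2 = Fintype.card F * (Fintype.card F ^ 2 - 1) :=
    Cfsg.Agent.Lib.H5.PSL2Subfield.card_PGL
  obtain ⟨k, hk⟩ := hodd
  have h4 : 4 ∣ Nat.card PGL2 := by
    rw [hG, hk]
    have : (2 * k + 1) ^ 2 - 1 = 4 * (k * (k + 1)) := by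
      have : (2 * k + 1) ^ 2 = 4 * (k * (k + 1)) + 1 := by ring
      omega
    rw [this]
    exact Dvd.dvd.mul_left (Dvd.intro _ rfl) _
  have h4S : 2 ^ 2 ∣ Nat.card S := S.pow_dvd_card_of_pow_dvd_card (by norm_num; exact h4)
  rcases eq_or_lt_of_le hS with h | h
  · have : Nat.card M = Nat.card S := by rw [h]
    rw [← this, hc] at h4S
    norm_num at h4S
  · have htop := hM.2 _ h
    have hSp : IsPGroup 2 (⊤ : Subgroup PGL2) := htop ▸ S.isPGroup'
    obtain ⟨n, hn⟩ := hSp.exists_card_eq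
    rw [Subgroup.card_top, hG, hk] at hn
    have hdvd : 2 * k + 1 ∣ 2 ^ n := ⟨_, hn.symm⟩
    obtain ⟨j, -, hj⟩ := (Nat.dvd_prime_pow Nat.prime_two).mp hdvd
    have hodd' : ¬ 2 ∣ 2 * k + 1 := by omega
    rcases Nat.eq_zero_or_pos j with h0 | h0
    · subst h0
      simp at hj
      omega
    · apply hodd'
      rw [hj]
      exact dvd_pow_self 2 h0.ne'

include hodd h3 hM hML in
/-- `M ∩ L` is not a Klein four-group -/
theorem not_isKleinFour (hV : IsKleinFour (M.comap (T (F := F)))) : False := by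
  have hb := comap_ne_bot hodd h3 hM hML
  have ht := comap_ne_top (F := F) hML
  have h1 := comap_eq_normalizer h3 hM (M.comap (T (F := F))) hb ht
    (fun m hm x hx => autOf_mem hm hx)
  have h12 := PSL2KleinNorm.twelve_le_card_normalizer hodd _ hV
  rw [← h1, hV.card_four] at h12
  omega

end Cfsg.Agent.Lib.H5.PGL2Ctx
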