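import Mathlib
import Cfsg.Agent.S0805
import Cfsg.Agent.Lib.H5.PSL2SubfieldPGLMax
import Cfsg.Agent.Lib.H5.PGL2.Basic

/-!
# `PGL₂(q)` embeds in `PSL₂(q²)`
-/

set_option autoImplicit false
set_option linter.style.haveILetI false

namespace Cfsg.Agent.Lib.H5.PGL2Embed

variable {F : Type*} [Field F] [Fintype F]

/-- **`PGL₂(q) ↪ PSL₂(q²)`**, `q` odd -/
theorem exists_embedding (p : ℕ) [Fact p.Prime] [CharP F p] (hodd : Odd (Fintype.card F)) :
    ∃ (K : Type) (_ : Field K) (_ : Fintype K), CharP K p ∧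
      Fintype.card K = Fintype.card F ^ 2 ∧
      ∃ J : Matrix.ProjGenLinGroup (Fin 2) F →* Matrix.ProjectiveSpecialLinearGroup (Fin 2) K,
        Function.Injective J := by
  obtain ⟨n, hn⟩ := FiniteField.card F p
  have hn0 : (2 * (n : ℕ)) ≠ 0 := by
    have := n.pos
    omega
  haveI : Fintype (GaloisField p (2 * n)) := Fintype.ofFinite _
  have hcK : Fintype.card (GaloisField p (2 * n)) = Fintype.card F ^ 2 := by
    rw [← Nat.card_eq_fintype_card, GaloisField.card p _ hn0, hn.2, ← pow_mul, mul_comm]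
  obtain ⟨ι⟩ := Cfsg.Agent.Lib.H5.PSL2Subfield.exists_ringHom (F := GaloisField p (2 * n)) (K := F) 2
    hcK.symm
  have hoddK : Odd (Fintype.card (GaloisField p (2 * n))) := by rw [hcK]; exact hodd.pow
  have hsq := Cfsg.Agent.S0805.exists_sqrt ι hoddK 2 (by decide) hcK.symm
  obtain ⟨e⟩ := Cfsg.Agent.Lib.H5.PSL2SubfieldMax.pglSub_equiv ι hsq
  refine ⟨GaloisField p (2 * n), inferInstance, inferInstance, inferInstance, hcK,
    (Cfsg.Agent.Lib.H5.PSL2SubfieldMax.pglSub ι).subtype.comp e.symm.toMonoidHom, ?_⟩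
  exact (Subgroup.subtype_injective _).comp e.symm.injective

end Cfsg.Agent.Lib.H5.PGL2Embed
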