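import Mathlib
import Cfsg.Agent.Lib.H5.PGL2.Ctx
import Cfsg.Agent.Lib.H5.PGL2.Embed
import Cfsg.Agent.Lib.H5.PGL2.KleinChar
import Cfsg.Agent.Lib.H5.PSL2MaxKlein

/-!
# Maximal subgroups of `PGL₂(q)` normalizing a Klein four-subgroup
-/

set_option autoImplicit false
set_option linter.style.haveILetI false

namespace Cfsg.Agent.Lib.H5.PGL2Klein

open Matrix Cfsg.Agent.Lib.H5.PSL2Torus Cfsg.Agent.Lib.H5.PGL2Basic Cfsg.Agent.Lib.H5.PGL2Ctx
  Cfsg.Agent.Lib.H5

variable {F : Type*} [Field F] [Fintype F]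

local notation "SL2" => Matrix.SpecialLinearGroup (Fin 2) F
local notation "M2" => Matrix (Fin 2) (Fin 2) F
local notation "PSL2" => Matrix.ProjectiveSpecialLinearGroup (Fin 2) F
local notation "PGL2" => Matrix.ProjGenLinGroup (Fin 2) F

theorem isKleinFour_map {G G' : Type*} [Group G] [Group G'] (f : G →* G')
    (hf : Function.Injective f) {V : Subgroup G} (hV : IsKleinFour V) : IsKleinFour (V.map f) := by
  have e : V ≃* V.map f := V.equivMapOfInjective f hf
  exact ⟨by rw [← Nat.card_congr e.toEquiv]; exact hV.card_four,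
    by rw [← Monoid.exponent_eq_of_mulEquiv e]; exact hV.exponent_two⟩

theorem sixteen_dvd_of_odd_sq {q : ℕ} (hq : Odd q) : 16 ∣ q ^ 2 * ((q ^ 2) ^ 2 - 1) := by
  obtain ⟨k, rfl⟩ := hq
  obtain ⟨t, ht⟩ : ∃ t, (2 * k + 1) ^ 2 = 8 * t + 1 := by
    rcases Nat.even_or_odd' k with ⟨j, hj | hj⟩
    · exact ⟨j * (2 * j + 1), by rw [hj]; ring⟩
    · exact ⟨(j + 1) * (2 * j + 1), by rw [hj]; ring⟩
  rw [ht]
  have : (8 * t + 1) ^ 2 - 1 = 16 * (t * (4 * t + 1)) := by
    have : (8 * t + 1) ^ 2 = 16 * (t * (4 * t + 1)) + 1 := by ring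
    omega
  rw [this]
  exact Dvd.dvd.mul_left (Dvd.intro _ rfl) _

/-- if `M` normalizes a Klein four-subgroup `V` then `M ∩ L = N_L(V)`, `|M| ≤ 24`, and `M ≅ S₄` in
case of equality -/
theorem klein_inv (p : ℕ) [Fact p.Prime] [CharP F p] (hodd : Odd (Fintype.card F)) (h3 : 3 < Fintype.card F)
    {M : Subgroup (Matrix.ProjGenLinGroup (Fin 2) F)} (hM : IsCoatom M)
    (V : Subgroup PSL2) (hV : IsKleinFour V) (hinv : ∀ m ∈ M, ∀ v ∈ V, autOf m v ∈ V) :
    M = nrm V ∧ M.comap (T (F := F)) = Subgroup.normalizer (V : Set PSL2) ∧ Nat.card M ≤ 24 ∧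
      (Nat.card M = 24 → Nonempty (M ≃* Equiv.Perm (Fin 4))) := by
  have hVb : V ≠ ⊥ := by
    intro h
    have := hV.card_four
    rw [h, Subgroup.card_bot] at this
    omega
  have hVt : V ≠ ⊤ := by
    intro h
    have h4 := hV.card_four
    rw [h, Subgroup.card_top] at h4
    have hG := PSL2PrimeMax.two_mul_card hodd
    rw [h4] at hG
    have h5 : 5 ≤ Fintype.card F := by
      obtain ⟨k, hk⟩ := hodd
      omega
    have : 24 ≤ Fintype.card F ^ 2 - 1 := by
      have : 25 ≤ Fintype.card F ^ 2 := by nlinarith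
      omega
    nlinarith
  have hMN := eq_nrm h3 hM V hVb hVt hinv
  have hHN := comap_eq_normalizer h3 hM V hVb hVt hinv
  refine ⟨hMN, hHN, ?_⟩
  obtain ⟨K, hKf, hKt, hKp, hKc, J, hJ⟩ := PGL2Embed.exists_embedding (F := F) p hodd
  have hoddK : Odd (Fintype.card K) := by rw [hKc]; exact hodd.pow
  have h2K : (2 : K) ≠ 0 := Cfsg.Agent.Lib.H12.two_ne_zero_of_odd hoddK
  have hV' : IsKleinFour ((V.map (T (F := F))).map J) :=
    isKleinFour_map J hJ (isKleinFour_map T T_injective hV)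
  have h8 : 8 ∣ Nat.card (Matrix.ProjectiveSpecialLinearGroup (Fin 2) K) := by
    have h1 := PSL2PrimeMax.two_mul_card hoddK
    have h2 := sixteen_dvd_of_odd_sq hodd
    rw [hKc] at h1
    rw [← h1] at h2
    omega
  have h24 := PSL2MaxKlein.card_normalizer_of_eight_dvd hoddK _ hV' h8
  have hle : M.map J ≤ Subgroup.normalizer
      (((V.map (T (F := F))).map J : Subgroup (Matrix.ProjectiveSpecialLinearGroup (Fin 2) K)) :
        Set _) := by
    rw [hMN]
    exact Subgroup.le_normalizer_map J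
  have e' : M ≃* M.map J := M.equivMapOfInjective J hJ
  have hcM : Nat.card M = Nat.card (M.map J) := Nat.card_congr e'.toEquiv
  constructor
  · rw [hcM, ← h24]
    exact Subgroup.card_le_of_le hle
  · intro h
    have heq : M.map J = Subgroup.normalizer
        (((V.map (T (F := F))).map J : Subgroup (Matrix.ProjectiveSpecialLinearGroup (Fin 2) K)) :
          Set _) := by
      apply Subgroup.eq_of_le_of_card_ge hle
      rw [h24, ← hcM, h]
    obtain ⟨e⟩ := PSL2KleinNorm.normalizer_equiv_S4 _ hV'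
      (PSL2KleinNorm.centralizer_klein_eq h2K _ hV').le h24
    exact ⟨e'.trans ((MulEquiv.subgroupCongr heq).trans e)⟩

end Cfsg.Agent.Lib.H5.PGL2Klein
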