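import Mathlib
import Cfsg.Agent.Lib.H5.PGL2.Basic
import Cfsg.Agent.Lib.H5.PSL2MinSimple
import Cfsg.Agent.Lib.H5.PSL2MaxTwo

/-!
# The subfield subgroups `PGL₂(S)` of `PGL₂(F)`
-/

set_option autoImplicit false
set_option linter.style.haveILetI false

namespace Cfsg.Agent.Lib.H5.PGL2Std

open Matrix Cfsg.Agent.Lib.H5.PSL2Torus Cfsg.Agent.Lib.H5.PGL2Basic Cfsg.Agent.Lib.H5

variable {F : Type*} [Field F]

local notation "SL2" => Matrix.SpecialLinearGroup (Fin 2) F
local notation "M2" => Matrix (Fin 2) (Fin 2) F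
local notation "PSL2" => Matrix.ProjectiveSpecialLinearGroup (Fin 2) F
local notation "PGL2" => Matrix.ProjGenLinGroup (Fin 2) F
local notation "GL2" => Matrix.GeneralLinearGroup (Fin 2) F

/-- the subgroup `PGL₂(S)` of `PGL₂(F)` -/
def pglStd (S : Subfield F) : Subgroup PGL2 :=
  (Matrix.ProjGenLinGroup.map (n := Fin 2) (S.subtype : ↥S →+* F)).range

/-- a matrix which is a scalar multiple of a matrix over `S` gives an element of `PGL₂(S)` -/
theorem mk_mem_pglStd_of_entries (S : Subfield F) (z : GL2) (c : F)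
    (hz : ∀ i j, ∃ s ∈ S, (z : M2) i j = c * s) : Matrix.ProjGenLinGroup.mk z ∈ pglStd S := by
  choose s hs he using hz
  have hc : c ≠ 0 := by
    rintro rfl
    have hdet : (z : M2).det ≠ 0 := by
      have := Matrix.isUnits_det_units z
      exact this.ne_zero
    apply hdet
    rw [Matrix.det_fin_two, he 0 0, he 0 1, he 1 0, he 1 1]
    ring
  obtain ⟨γ0, hγ0⟩ : ∃ γ0 : Matrix (Fin 2) (Fin 2) S, γ0 = Matrix.of fun i j => ⟨s i j, hs i j⟩ :=
    ⟨_, rfl⟩
  have hγdet : γ0.det ≠ 0 := by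
    intro h0
    rw [Matrix.det_fin_two, hγ0] at h0
    simp only [Matrix.of_apply] at h0
    have h1 := congrArg (Subtype.val : ↥S → F) h0
    simp only [Subfield.coe_sub, Subfield.coe_mul, ZeroMemClass.coe_zero] at h1
    have hdet : (z : M2).det ≠ 0 := (Matrix.isUnits_det_units z).ne_zero
    apply hdet
    rw [Matrix.det_fin_two, he 0 0, he 0 1, he 1 0, he 1 1]
    linear_combination c ^ 2 * h1
  refine ⟨Matrix.ProjGenLinGroup.mk (Matrix.GeneralLinearGroup.mkOfDetNeZero γ0 hγdet), ?_⟩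
  rw [Matrix.ProjGenLinGroup.map_mk, Matrix.ProjGenLinGroup.mk_eq_mk_iff]
  refine ⟨Units.mk0 c hc, ?_⟩
  apply Units.ext
  ext i j
  rw [Units.val_mul, Matrix.GeneralLinearGroup.coe_scalar, Matrix.scalar_apply,
    ← Matrix.smul_one_eq_diagonal, Matrix.mul_smul, Matrix.mul_one, Matrix.smul_apply, smul_eq_mul,
    Units.val_mk0, he i j]
  congr 1
  show (S.subtype : ↥S →+* F) (γ0 i j) = s i j
  rw [hγ0]
  rfl

/-- elements of `PGL₂(S)` are represented by matrices over `S` -/
theorem exists_of_mem_pglStd (S : Subfield F) {m : PGL2} (hm : m ∈ pglStd S) :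
    ∃ z : GL2, Matrix.ProjGenLinGroup.mk z = m ∧ ∀ i j, (z : M2) i j ∈ S := by
  obtain ⟨x, rfl⟩ := hm
  induction x using Matrix.ProjGenLinGroup.induction_on with | mk γ =>
  refine ⟨Matrix.GeneralLinearGroup.map (S.subtype : ↥S →+* F) γ, rfl, fun i j => ?_⟩
  rw [Matrix.GeneralLinearGroup.map_apply]
  exact SetLike.coe_mem _

theorem pglStd_mono {S S' : Subfield F} (h : S ≤ S') : pglStd S ≤ pglStd S' := by
  intro m hm
  obtain ⟨z, rfl, hz⟩ := exists_of_mem_pglStd S hm
  apply mk_mem_pglStd_of_entries S' z 1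
  intro i j
  exact ⟨_, h (hz i j), (one_mul _).symm⟩

theorem pglStd_top : pglStd (⊤ : Subfield F) = ⊤ := by
  rw [eq_top_iff]
  intro m _
  induction m using Matrix.ProjGenLinGroup.induction_on with | mk z =>
  apply mk_mem_pglStd_of_entries ⊤ z 1
  intro i j
  exact ⟨_, Subfield.mem_top _, (one_mul _).symm⟩

/-- **`PGL₂`-elements of `PSL₂`**: the determinant is a square -/
theorem mk_mem_range_iff (z : GL2) :
    Matrix.ProjGenLinGroup.mk z ∈ (T (F := F)).range ↔ ∃ u : F, u * u = (z : M2).det := by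
  constructor
  · rintro ⟨y, hy⟩
    obtain ⟨h, rfl⟩ := pr_surjective y
    rw [T_pr, Matrix.ProjGenLinGroup.mk_eq_mk_iff] at hy
    obtain ⟨u, hu⟩ := hy
    have h1 := congrArg (fun w : GL2 => (w : M2).det) hu
    simp only [Units.val_mul, Matrix.GeneralLinearGroup.coe_scalar, Matrix.det_mul] at h1
    rw [Matrix.scalar_apply, Matrix.det_diagonal, Fin.prod_univ_two] at h1
    have h2 : ((Matrix.SpecialLinearGroup.toGL h : GL2) : M2).det = 1 := h.det_coe
    rw [h2, one_mul] at h1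
    exact ⟨u, h1⟩
  · rintro ⟨u, hu⟩
    have hdet : (z : M2).det ≠ 0 := (Matrix.isUnits_det_units z).ne_zero
    have hu0 : u ≠ 0 := by
      rintro rfl
      rw [mul_zero] at hu
      exact hdet hu.symm
    have hd : (u⁻¹ • (z : M2)).det = 1 := by
      rw [Matrix.det_smul, Fintype.card_fin, ← hu]
      field_simp
    obtain ⟨h, hh⟩ : ∃ h : SL2, (h : M2) = u⁻¹ • (z : M2) := ⟨⟨_, hd⟩, rfl⟩
    refine ⟨pr h, ?_⟩
    rw [T_pr, Matrix.ProjGenLinGroup.mk_eq_mk_iff]
    refine ⟨Units.mk0 u hu0, ?_⟩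
    apply Units.ext
    rw [Units.val_mul, Matrix.GeneralLinearGroup.coe_scalar, Matrix.scalar_apply,
      ← Matrix.smul_one_eq_diagonal, Matrix.mul_smul, Matrix.mul_one, Units.val_mk0]
    show u • (h : M2) = z
    rw [hh, smul_smul, mul_inv_cancel₀ hu0, one_smul]

section Finite

variable [Fintype F]

theorem card_pglStd (S : Subfield F) :
    Nat.card (pglStd S) = Nat.card S * (Nat.card S ^ 2 - 1) := by
  haveI : Fintype S := Fintype.ofFinite S
  unfold pglStd
  rw [← Nat.card_congr (MonoidHom.ofInjective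
    (PSL2Subfield.pglMap_injective (S.subtype : ↥S →+* F))).toEquiv, PSL2Subfield.card_PGL,
    Nat.card_eq_fintype_card]

theorem card_mono_aux {a b : ℕ} (ha : 2 ≤ a) (hab : a < b) : a * (a ^ 2 - 1) < b * (b ^ 2 - 1) := by
  have h1 : a ^ 2 - 1 ≤ b ^ 2 - 1 := by
    have : a ^ 2 ≤ b ^ 2 := Nat.pow_le_pow_left hab.le 2
    omega
  have h2 : 0 < b ^ 2 - 1 := by
    have : 4 ≤ b ^ 2 := by nlinarith
    omega
  calc a * (a ^ 2 - 1) ≤ a * (b ^ 2 - 1) := Nat.mul_le_mul_left _ h1
    _ < b * (b ^ 2 - 1) := Nat.mul_lt_mul_of_pos_right hab h2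

theorem card_subfield_le (S : Subfield F) : Nat.card S ≤ Fintype.card F := by
  rw [← Nat.card_eq_fintype_card]
  exact Nat.card_le_card_of_injective _ Subtype.val_injective

theorem two_le_card_subfield (S : Subfield F) : 2 ≤ Nat.card S := by
  haveI : Fintype S := Fintype.ofFinite S
  rw [Nat.card_eq_fintype_card]
  exact Fintype.one_lt_card

/-- `PGL₂(S) = PGL₂(F)` only for `S = F` -/
theorem eq_top_of_pglStd_eq_top (S : Subfield F) (h : pglStd S = ⊤) : S = ⊤ := by
  apply PSL2MinSimple.subfield_eq_top_of_card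
  have h1 := card_pglStd S
  rw [h, Subgroup.card_top, PSL2Subfield.card_PGL] at h1
  rcases lt_or_eq_of_le (card_subfield_le S) with hlt | heq
  · have := card_mono_aux (two_le_card_subfield S) hlt
    omega
  · exact heq

/-- the order of a subfield determines it -/
theorem le_of_pglStd_le {S S' : Subfield F} (h : pglStd S' ≤ pglStd S) : S' ≤ S := by
  intro a ha
  by_cases ha0 : a = 0
  · rw [ha0]; exact S.zero_mem
  -- `diag(a, 1)` lies in `PGL₂(S')`
  have hdet : (!![a, 0; 0, 1] : M2).det ≠ 0 := by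
    rw [Matrix.det_fin_two_of]; simpa using ha0
  have hm : Matrix.ProjGenLinGroup.mk (Matrix.GeneralLinearGroup.mkOfDetNeZero _ hdet) ∈
      pglStd S' := by
    apply mk_mem_pglStd_of_entries S' _ 1
    intro i j
    refine ⟨(!![a, 0; 0, 1] : M2) i j, ?_, (one_mul _).symm⟩
    fin_cases i <;> fin_cases j
    · exact ha
    · exact S'.zero_mem
    · exact S'.zero_mem
    · exact S'.one_mem
  obtain ⟨z, hz, hzS⟩ := exists_of_mem_pglStd S (h hm)
  rw [Matrix.ProjGenLinGroup.mk_eq_mk_iff] at hz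
  obtain ⟨u, hu⟩ := hz
  have h00 := congrArg (fun w : GL2 => (w : M2) 0 0) hu
  have h11 := congrArg (fun w : GL2 => (w : M2) 1 1) hu
  simp only [Units.val_mul, Matrix.GeneralLinearGroup.coe_scalar, Matrix.scalar_apply,
    ← Matrix.smul_one_eq_diagonal, Matrix.mul_smul, Matrix.mul_one, Matrix.smul_apply,
    smul_eq_mul] at h00 h11
  have e00 : (u : F) * (z : M2) 0 0 = a := h00
  have e11 : (u : F) * (z : M2) 1 1 = 1 := h11
  have hz11 : (z : M2) 1 1 ≠ 0 := by
    intro h0
    rw [h0, mul_zero] at e11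
    exact zero_ne_one e11
  have : a = (z : M2) 0 0 * ((z : M2) 1 1)⁻¹ := by
    have hu' : (u : F) = ((z : M2) 1 1)⁻¹ := eq_inv_of_mul_eq_one_left e11
    rw [← e00, hu']
    ring
  rw [this]
  exact S.mul_mem (hzS 0 0) (S.inv_mem (hzS 1 1))

end Finite

end Cfsg.Agent.Lib.H5.PGL2Std
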