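import Mathlib
import Cfsg.Agent.Lib.H5.PGL2.Klein
import Cfsg.Agent.Lib.H5.PGL2.Std
import Cfsg.Agent.Lib.H5.PSL2MaxExc3
import Cfsg.Agent.Lib.H5.SL2Realize

/-!
# Maximal subgroups of `PGL₂(q)`: `M ∩ L ≅ A₄`
-/

set_option autoImplicit false
set_option linter.style.haveILetI false

namespace Cfsg.Agent.Lib.H5.PGL2A4

open Matrix Cfsg.Agent.Lib.H5.PSL2Torus Cfsg.Agent.Lib.H5.PGL2Basic Cfsg.Agent.Lib.H5.PGL2Ctx
  Cfsg.Agent.Lib.H5 Cfsg.Agent.Lib.H5.PGL2Std Cfsg.Agent.Lib.H1.DicksonBridge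
  Cfsg.Agent.Lib.H5.FrobFix

variable {F : Type*} [Field F] [Fintype F]

local notation "SL2" => Matrix.SpecialLinearGroup (Fin 2) F
local notation "M2" => Matrix (Fin 2) (Fin 2) F
local notation "PSL2" => Matrix.ProjectiveSpecialLinearGroup (Fin 2) F
local notation "PGL2" => Matrix.ProjGenLinGroup (Fin 2) F
local notation "GL2" => Matrix.GeneralLinearGroup (Fin 2) F

/-- every Klein four-subgroup is the image of a quaternion pair -/
theorem klein_pair (h2 : (2 : F) ≠ 0) (V : Subgroup PSL2) (hV : IsKleinFour V) :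
    ∃ a b : SL2, a * a = -1 ∧ b * a * b⁻¹ = a⁻¹ ∧
      ∀ x, x ∈ V ↔ x = 1 ∨ x = pr a ∨ x = pr b ∨ x = pr a * pr b := by
  obtain ⟨y, hy⟩ := PSL2KleinConj.exists_qPair_klein h2 V hV
  refine ⟨y.1.1, y.1.2, y.2.1, y.2.2, ?_⟩
  intro x
  rw [← hy]
  unfold KleinCount.InvPair.klein
  rw [KleinCount.mem_kleinSub]
  rfl

/-- the unit `1 + a` for `a² = -1` -/
theorem det_one_add {a : SL2} (ha : a * a = -1) : (1 + (a : M2)).det = 2 := by
  have ht := Cfsg.Agent.Lib.H12.trace_eq_zero_of_mul_self a ha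
  have hd := a.det_coe
  rw [Matrix.det_fin_two] at hd ⊢
  rw [Matrix.trace_fin_two] at ht
  simp only [Matrix.add_apply, Matrix.one_apply_eq, Matrix.one_apply_ne, ne_eq, zero_ne_one,
    one_ne_zero, not_false_eq_true, zero_add]
  linear_combination hd + ht

theorem cj_one_add_fst {a : SL2} (z : GL2) (hz : (z : M2) = 1 + (a : M2)) : cj z a = a := by
  apply Subtype.ext
  rw [cj_coe, Units.mul_inv_eq_iff_eq_mul, hz]
  noncomm_ring

theorem cj_one_add_snd {a b : SL2} (ha : a * a = -1) (hab : b * a * b⁻¹ = a⁻¹) (z : GL2)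
    (hz : (z : M2) = 1 + (a : M2)) : cj z b = a * b := by
  have hinv := Cfsg.Agent.Lib.H12.inv_eq_neg_of_mul_self a ha
  have hba : b * a = -(a * b) := by
    have : b * a = a⁻¹ * b := by
      calc b * a = (b * a * b⁻¹) * b := by group
        _ = a⁻¹ * b := by rw [hab]
    rw [this, hinv, neg_mul]
  have hA : (a : M2) * (a : M2) = -1 := by
    have := congrArg (fun g : SL2 => (g : M2)) ha
    simpa using this
  have hBA : (b : M2) * (a : M2) = -((a : M2) * (b : M2)) := by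
    have := congrArg (fun g : SL2 => (g : M2)) hba
    simpa using this
  apply Subtype.ext
  rw [cj_coe, Units.mul_inv_eq_iff_eq_mul, hz, Matrix.SpecialLinearGroup.coe_mul]
  calc (1 + (a : M2)) * (b : M2) = (b : M2) + (a : M2) * (b : M2) := by noncomm_ring
    _ = (a : M2) * (b : M2) - (a : M2) * (a : M2) * (b : M2) := by rw [hA]; noncomm_ring
    _ = (a : M2) * (b : M2) + (a : M2) * ((b : M2) * (a : M2)) := by rw [hBA]; noncomm_ring
    _ = (a : M2) * (b : M2) * (1 + (a : M2)) := by noncomm_ring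

/-- `1 + a` normalizes the Klein four-group of `a`, `b` -/
theorem mk_one_add_mem_nrm {a b : SL2} (ha : a * a = -1) (hab : b * a * b⁻¹ = a⁻¹)
    (z : GL2) (hz : (z : M2) = 1 + (a : M2)) (V : Subgroup PSL2)
    (hV : ∀ x, x ∈ V ↔ x = 1 ∨ x = pr a ∨ x = pr b ∨ x = pr a * pr b) :
    Matrix.ProjGenLinGroup.mk z ∈ nrm V := by
  have h1 : autOf (Matrix.ProjGenLinGroup.mk z) (pr a) = pr a := by
    rw [autOf_mk_pr, cj_one_add_fst z hz]
  have h2 : autOf (Matrix.ProjGenLinGroup.mk z) (pr b) = pr a * pr b := by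
    rw [autOf_mk_pr, cj_one_add_snd ha hab z hz, map_mul]
  have haa : pr a * pr a = 1 := by
    rw [← map_mul, ha]
    exact PSL2SubfieldMax.pr_neg_one
  apply mem_nrm_of_forall
  intro x hx
  rw [hV] at hx ⊢
  rcases hx with rfl | rfl | rfl | rfl
  · left; exact map_one _
  · right; left; exact h1
  · right; right; right; exact h2
  · right; right; left
    rw [map_mul, h1, h2, ← mul_assoc, haa, one_mul]

theorem coe_toGL (h : SL2) : ((Matrix.SpecialLinearGroup.toGL h : GL2) : M2) = (h : M2) := rfl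

/-- **descent to the field of traces**: if the traces of `M ∩ L` lie in `S`, and `M` is generated
by `M ∩ L` and (the image of) `1 + a` with `a ∈ M ∩ L`, then a conjugate of `M` lies in
`PGL₂(S)` -/
theorem descent (hodd : Odd (Fintype.card F))
    {M : Subgroup (Matrix.ProjGenLinGroup (Fin 2) F)}
    (S : Subfield F)
    (htr : ∀ h : SL2, pr h ∈ M.comap (T (F := F)) → (h : M2).trace ∈ S)
    {x y : PSL2} (hx : x ∈ M.comap (T (F := F))) (hy : y ∈ M.comap (T (F := F)))
    (hc1 : x * y * x⁻¹ * y⁻¹ ≠ 1) (hc2 : (x * y * x⁻¹ * y⁻¹) ^ 2 = 1)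
    (a : SL2) (haH : pr a ∈ M.comap (T (F := F))) (z : GL2) (hz : (z : M2) = 1 + (a : M2))
    (hzM : Matrix.ProjGenLinGroup.mk z ∈ M)
    (hzL : Matrix.ProjGenLinGroup.mk z ∉ (T (F := F)).range) :
    ∃ g : GL2, M.map (MulAut.conj (Matrix.ProjGenLinGroup.mk g)).toMonoidHom ≤ pglStd S := by
  have h2F : (2 : F) ≠ 0 := Cfsg.Agent.Lib.H12.two_ne_zero_of_odd hodd
  obtain ⟨h1, rfl⟩ := pr_surjective x
  obtain ⟨h2', rfl⟩ := pr_surjective y
  have hκ : ((h1 * h2' * h1⁻¹ * h2'⁻¹ : SL2) : M2).trace ≠ 2 := by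
    rw [PSL2MaxExc.trace_comm_eq_zero hc1 hc2]
    exact fun h => h2F h.symm
  obtain ⟨g, hg⟩ := SL2Realize.exists_conj S ((M.comap (T (F := F))).comap pr)
    (fun h hh => htr h hh) (show h1 ∈ (M.comap (T (F := F))).comap pr from hx)
    (show h2' ∈ (M.comap (T (F := F))).comap pr from hy) hκ
  refine ⟨g, ?_⟩
  -- representatives
  have key : ∀ m ∈ M, ∃ zz : GL2, Matrix.ProjGenLinGroup.mk zz = m ∧
      ∀ h ∈ (M.comap (T (F := F))).comap pr, ∃ s ∈ S, ((h : M2) * (zz : M2)).trace = 1 * s := by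
    intro m hm
    by_cases hmL : m ∈ (T (F := F)).range
    · obtain ⟨y₀, rfl⟩ := hmL
      obtain ⟨h₀, rfl⟩ := pr_surjective y₀
      refine ⟨Matrix.SpecialLinearGroup.toGL h₀, rfl, ?_⟩
      intro h hh
      refine ⟨_, htr (h * h₀) ?_, by rw [one_mul, coe_toGL, Matrix.SpecialLinearGroup.coe_mul]⟩
      rw [map_mul]
      exact mul_mem hh hm
    · have h3 : m * (Matrix.ProjGenLinGroup.mk z)⁻¹ ∈ (T (F := F)).range := by
        rw [Subgroup.mul_mem_iff_of_index_two (index_range hodd)]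
        constructor
        · intro h; exact absurd h hmL
        · intro h
          exact absurd ((Subgroup.inv_mem_iff _).mp h) hzL
      have h4 : m * (Matrix.ProjGenLinGroup.mk z)⁻¹ ∈ M := M.mul_mem hm (M.inv_mem hzM)
      obtain ⟨y₀, hy₀⟩ := h3
      obtain ⟨h₀, rfl⟩ := pr_surjective y₀
      have hh₀ : pr h₀ ∈ M.comap (T (F := F)) := by
        rw [Subgroup.mem_comap, hy₀]; exact h4
      refine ⟨Matrix.SpecialLinearGroup.toGL h₀ * z, ?_, ?_⟩
      · rw [map_mul, ← T_pr, hy₀]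
        group
      · intro h hh
        have e1 : (h : M2) * ((Matrix.SpecialLinearGroup.toGL h₀ * z : GL2) : M2) =
            ((h * h₀ : SL2) : M2) + ((h * h₀ * a : SL2) : M2) := by
          rw [Units.val_mul, coe_toGL, hz, Matrix.SpecialLinearGroup.coe_mul,
            Matrix.SpecialLinearGroup.coe_mul, Matrix.SpecialLinearGroup.coe_mul]
          noncomm_ring
        rw [e1, Matrix.trace_add]
        refine ⟨_, S.add_mem (htr (h * h₀) ?_) (htr (h * h₀ * a) ?_), (one_mul _).symm⟩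
        · rw [map_mul]; exact mul_mem hh hh₀
        · rw [map_mul, map_mul]; exact mul_mem (mul_mem hh hh₀) haH
  rintro _ ⟨m, hm, rfl⟩
  obtain ⟨zz, rfl, hzz⟩ := key m hm
  have h5 := hg (zz : M2) 1 hzz
  have h6 : (MulAut.conj (Matrix.ProjGenLinGroup.mk g)).toMonoidHom (Matrix.ProjGenLinGroup.mk zz) =
      Matrix.ProjGenLinGroup.mk (g * zz * g⁻¹) := by
    show (MulAut.conj (Matrix.ProjGenLinGroup.mk g)) (Matrix.ProjGenLinGroup.mk zz) = _
    rw [MulAut.conj_apply, map_mul, map_mul, map_inv]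
  rw [h6]
  apply mk_mem_pglStd_of_entries S _ 1
  intro i j
  exact h5 i j

theorem three_of_mul {s : ℕ} (hs : s * (s ^ 2 - 1) = 24) : s = 3 := by
  have hle : s ≤ 3 := by
    by_contra hlt
    push Not at hlt
    have h4 : 4 ≤ s := hlt
    have : 4 * (4 ^ 2 - 1) ≤ s * (s ^ 2 - 1) :=
      Nat.mul_le_mul h4 (Nat.sub_le_sub_right (Nat.pow_le_pow_left h4 2) 1)
    omega
  interval_cases s <;> omega

/-- **the `A₄` case**: `M ∩ L ≅ A₄` prime to `p` forces `q = p ≡ ±3 (mod 8)`, `M ≅ S₄` -/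
theorem A4_case (p : ℕ) [Fact p.Prime] [CharP F p] (hodd : Odd (Fintype.card F))
    (h3 : 3 < Fintype.card F)
    {M : Subgroup (Matrix.ProjGenLinGroup (Fin 2) F)} (hM : IsCoatom M)
    (hML : ¬ (T (F := F)).range ≤ M)
    (hpH : ¬ p ∣ Nat.card (M.comap (T (F := F))))
    (e : (M.comap (T (F := F)) : Subgroup PSL2) ≃* alternatingGroup (Fin 4)) :
    (Fintype.card F).Prime ∧ (Fintype.card F % 8 = 3 ∨ Fintype.card F % 8 = 5) ∧
      Nonempty (M ≃* Equiv.Perm (Fin 4)) ∧
      ∃ V : Subgroup PSL2, IsKleinFour V ∧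
        M.comap (T (F := F)) = Subgroup.normalizer (V : Set PSL2) := by
  have hpp : p.Prime := Fact.out
  have h2F : (2 : F) ≠ 0 := Cfsg.Agent.Lib.H12.two_ne_zero_of_odd hodd
  obtain ⟨V, hVK, hVle, hVmem⟩ := KleinChar.exists_klein_char_A4 (M.comap (T (F := F))) e
  have hinv : ∀ m ∈ M, ∀ v ∈ V, autOf m v ∈ V := by
    intro m hm v hv
    rw [hVmem] at hv ⊢
    refine ⟨autOf_mem hm hv.1, ?_⟩
    rw [← map_mul, hv.2, map_one]
  obtain ⟨hMN, hHN, -, h24⟩ := PGL2Klein.klein_inv p hodd h3 hM V hVK hinv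
  have hcH : Nat.card (M.comap (T (F := F))) = 12 := by
    rw [Nat.card_congr e.toEquiv, PSL2PrimeMax.card_alt_four]
  have hcM : Nat.card M = 24 := by
    rw [card_eq hodd hM hML, hcH]
  have hmod : Fintype.card F % 8 = 3 ∨ Fintype.card F % 8 = 5 := by
    by_contra hcon
    have h17 : Fintype.card F % 8 = 1 ∨ Fintype.card F % 8 = 7 := by
      obtain ⟨k, hk⟩ := hodd
      omega
    have h16 := PSL2MaxExc.sixteen_dvd_of_mod h17
    have h8 : 8 ∣ Nat.card PSL2 := by
      have h1 := PSL2PrimeMax.two_mul_card hodd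
      have h2 : 16 ∣ 2 * Nat.card PSL2 := by
        rw [h1]; exact Dvd.dvd.mul_left h16 _
      omega
    have := PSL2MaxKlein.card_normalizer_of_eight_dvd hodd V hVK h8
    rw [← hHN, hcH] at this
    omega
  have hq : Fintype.card F = p := by
    obtain ⟨x₀, y₀, hx₀, hy₀, h1, h2⟩ := PSL2MaxExc.exists_pair4
    obtain ⟨x, y, hx, hy, hc1, hc2⟩ := PSL2MaxExc.exists_pair_of_equiv (M.comap (T (F := F))) e
      ⟨x₀, Equiv.Perm.mem_alternatingGroup.mpr hx₀⟩ ⟨y₀, Equiv.Perm.mem_alternatingGroup.mpr hy₀⟩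
      (fun h => h1 (by simpa using congrArg Subtype.val h))
      (Subtype.ext (by simpa using h2))
    have htr : ∀ h : SL2, pr h ∈ M.comap (T (F := F)) → (h : M2).trace ∈ frobFix (F := F) p 1 := by
      intro h hh
      rcases PSL2MaxExc.alt4_pow' (e ⟨pr h, hh⟩ : Equiv.Perm (Fin 4))
        (Equiv.Perm.mem_alternatingGroup.mp (e ⟨pr h, hh⟩).2) with h' | h'
      · exact PSL2MaxExc.trace_mem_of_pow_two _ h
          (PSL2MaxExc.pow_eq_one_of_equiv _ e hh 2 (Subtype.ext (by simpa using h')))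
      · exact PSL2MaxExc.trace_mem_of_pow_three _ h
          (PSL2MaxExc.pow_eq_one_of_equiv _ e hh 3 (Subtype.ext (by simpa using h')))
    obtain ⟨a, b, ha, hab, hVab⟩ := klein_pair h2F V hVK
    have haH : pr a ∈ M.comap (T (F := F)) := hVle ((hVab _).mpr (Or.inr (Or.inl rfl)))
    have hdet : (1 + (a : M2)).det ≠ 0 := by rw [det_one_add ha]; exact h2F
    obtain ⟨z, hz⟩ : ∃ z : GL2, (z : M2) = 1 + (a : M2) :=
      ⟨Matrix.GeneralLinearGroup.mkOfDetNeZero _ hdet, rfl⟩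
    have hzM : Matrix.ProjGenLinGroup.mk z ∈ M := by
      rw [hMN]
      exact mk_one_add_mem_nrm ha hab z hz V hVab
    have hzL : Matrix.ProjGenLinGroup.mk z ∉ (T (F := F)).range := by
      rw [mk_mem_range_iff]
      rintro ⟨u, hu⟩
      have hdz : Matrix.det (z : M2) = 2 := by rw [hz, det_one_add ha]
      rw [hdz] at hu
      have hsq : IsSquare (2 : F) := ⟨u, hu.symm⟩
      rw [FiniteField.isSquare_two_iff] at hsq
      omega
    obtain ⟨g, hg⟩ := descent hodd (frobFix (F := F) p 1) htr hx hy hc1 hc2 a haH z hz hzM hzL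
    have hM' := PSL2MaxExc.isCoatom_map_equiv (MulAut.conj (Matrix.ProjGenLinGroup.mk g)) hM
    rcases hM'.le_iff.mp hg with htop | heq
    · exact card_eq_of_frobFix_one_eq_top p (eq_top_of_pglStd_eq_top _ htop)
    · exfalso
      have hc1' := card_pglStd (frobFix (F := F) p 1)
      rw [heq, Subgroup.card_map_of_injective (MulAut.conj (Matrix.ProjGenLinGroup.mk g)).injective,
        hcM] at hc1'
      have hs3 := three_of_mul hc1'.symm
      haveI : Fintype (frobFix (F := F) p 1) := Fintype.ofFinite _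
      have h3F : ((3 : ℕ) : F) = 0 := by
        have h' : ((frobFix (F := F) p 1).subtype : ↥(frobFix (F := F) p 1) →+* F)
            ((Fintype.card (frobFix (F := F) p 1) : ℕ) : ↥(frobFix (F := F) p 1)) = 0 := by
          rw [Nat.cast_card_eq_zero, map_zero]
        rw [map_natCast, ← Nat.card_eq_fintype_card, hs3] at h'
        exact h'
      rw [CharP.cast_eq_zero_iff F p] at h3F
      apply hpH
      rw [hcH]
      exact h3F.trans (by norm_num)
  refine ⟨by rw [hq]; exact hpp, hmod, h24 hcM, V, hVK, hHN⟩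

end Cfsg.Agent.Lib.H5.PGL2A4
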