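import Mathlib
import Cfsg.Agent.Lib.H5.PGL2.Ctx
import Cfsg.Agent.Lib.H5.PSL2PClosed
import Cfsg.Agent.Lib.H5.PSL2MinIndex
import Cfsg.Agent.Lib.H1.CoprimeSylow

/-!
# Maximal subgroups of `PGL₂(q)`: the Borel case
-/

set_option autoImplicit false
set_option linter.style.haveILetI false

namespace Cfsg.Agent.Lib.H5.PGL2Borel

open Matrix Cfsg.Agent.Lib.H5.PSL2Torus Cfsg.Agent.Lib.H5.PGL2Basic Cfsg.Agent.Lib.H5.PGL2Ctx
  Cfsg.Agent.Lib.H5

variable {F : Type*} [Field F] [Fintype F]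

local notation "SL2" => Matrix.SpecialLinearGroup (Fin 2) F
local notation "M2" => Matrix (Fin 2) (Fin 2) F
local notation "PSL2" => Matrix.ProjectiveSpecialLinearGroup (Fin 2) F
local notation "PGL2" => Matrix.ProjGenLinGroup (Fin 2) F

/-- uniqueness of the Sylow subgroup -/
theorem isSylowOf_unique {G : Type*} [Group G] [Finite G] {p : ℕ} [Fact p.Prime] {K Q Q' : Subgroup G}
    (h1 : Nat.card (Sylow p K) = 1) (hQ : Cfsg.Agent.Lib.H1.IsSylowOf p K Q)
    (hQ' : Cfsg.Agent.Lib.H1.IsSylowOf p K Q') : Q = Q' := by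
  haveI : Subsingleton (Sylow p K) := (Nat.card_eq_one_iff_unique.mp h1).1
  have h : hQ.toSylow = hQ'.toSylow := Subsingleton.elim _ _
  rw [← hQ.map_toSylow, ← hQ'.map_toSylow, h]

variable (p : ℕ) [Fact p.Prime] [CharP F p]

/-- **the Borel case** -/
theorem borel_case (hodd : Odd (Fintype.card F)) (h3 : 3 < Fintype.card F)
    {M : Subgroup (Matrix.ProjGenLinGroup (Fin 2) F)} (hM : IsCoatom M)
    (hML : ¬ (T (F := F)).range ≤ M)
    (hpH : p ∣ Nat.card (M.comap (T (F := F))))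
    (h1 : Nat.card (Sylow p (M.comap (T (F := F)))) = 1) :
    (∃ P : Sylow p PSL2, M.comap (T (F := F)) =
      Subgroup.normalizer ((P : Subgroup PSL2) : Set PSL2)) ∧
    Nat.card M = Fintype.card F * (Fintype.card F - 1) := by
  have hpp : p.Prime := Fact.out
  obtain ⟨H, hH⟩ : ∃ H : Subgroup PSL2, H = M.comap (T (F := F)) := ⟨_, rfl⟩
  rw [← hH] at hpH h1 ⊢
  obtain ⟨Q, hQ⟩ := Cfsg.Agent.Lib.H1.exists_isSylowOf p H
  have hQle : Q ≤ H := hQ.1
  have hQcard := hQ.2
  have hv : (Nat.card H).factorization p ≠ 0 := by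
    intro h0
    have hH0 : Nat.card H ≠ 0 := Nat.card_pos.ne'
    rcases (Nat.factorization_eq_zero_iff _ _).mp h0 with h | h | h
    · exact h hpp
    · exact h hpH
    · exact hH0 h
  have hQ1 : Q ≠ ⊥ := by
    intro hb
    rw [hb, Subgroup.card_bot] at hQcard
    have : 1 < p ^ (Nat.card H).factorization p := Nat.one_lt_pow hv hpp.one_lt
    omega
  -- `M` normalizes `Q`
  have hQinv : ∀ m ∈ M, ∀ x ∈ Q, autOf m x ∈ Q := by
    intro m hm x hx
    have hQ' : Cfsg.Agent.Lib.H1.IsSylowOf p H (Q.map (autOf m).toMonoidHom) := by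
      refine ⟨?_, ?_⟩
      · rintro _ ⟨y, hy, rfl⟩
        rw [hH]
        exact autOf_mem hm (hH ▸ hQle hy)
      · rw [Subgroup.card_map_of_injective (autOf m).injective]
        exact hQcard
    have := isSylowOf_unique h1 hQ hQ'
    rw [this]
    exact ⟨x, hx, rfl⟩
  have hQp : IsPGroup p Q := hQ.isPGroup
  obtain ⟨P, hP⟩ := hQp.exists_le_sylow
  obtain ⟨x, hxQ, hx1⟩ : ∃ x : PSL2, x ∈ Q ∧ x ≠ 1 := by
    obtain ⟨x, hx⟩ := Subgroup.ne_bot_iff_exists_ne_one.mp hQ1
    exact ⟨(x : PSL2), x.2, fun h' => hx (Subtype.ext h')⟩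
  have hPinv : ∀ m ∈ M, ∀ z ∈ (P : Subgroup PSL2), autOf m z ∈ (P : Subgroup PSL2) := by
    intro m hm z hz
    have e1 : autOf m x ∈ (P : Subgroup PSL2) := hP (hQinv m hm x hxQ)
    have e2 : autOf m x ∈ ((autOf m • P : Sylow p PSL2) : Subgroup PSL2) := by
      rw [Sylow.pointwise_smul_def, Subgroup.mem_smul_pointwise_iff_exists]
      exact ⟨x, hP hxQ, rfl⟩
    have e3 : autOf m x ≠ 1 := by
      intro h
      apply hx1
      exact (autOf m).injective (h.trans (map_one _).symm)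
    have e4 := PSL2Borel.psl2_sylTI (PSL2Borel.char_cases (F := F) p) P (autOf m • P) _ e1 e2 e3
    have e5 : autOf m z ∈ ((autOf m • P : Sylow p PSL2) : Subgroup PSL2) := by
      rw [Sylow.pointwise_smul_def, Subgroup.mem_smul_pointwise_iff_exists]
      exact ⟨z, hz, rfl⟩
    rw [← e4] at e5
    exact e5
  have hidx := PSL2MinIndex.index_normalizer_sylow p P
  have hPb : (P : Subgroup PSL2) ≠ ⊥ := by
    intro hb
    apply hQ1
    rw [eq_bot_iff, ← hb]
    exact hP
  have hPt : (P : Subgroup PSL2) ≠ ⊤ := by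
    intro ht
    rw [ht, Subgroup.normalizer_eq_top, Subgroup.index_top] at hidx
    omega
  have hHN := comap_eq_normalizer h3 hM (P : Subgroup PSL2) hPb hPt hPinv
  rw [← hH] at hHN
  refine ⟨⟨P, hHN⟩, ?_⟩
  have hcM := card_eq hodd hM hML
  rw [← hH] at hcM
  have h2 := H.card_mul_index
  rw [hHN, hidx, ← hHN] at h2
  have hcG := PSL2PrimeMax.two_mul_card hodd
  have h3' : Fintype.card F ^ 2 - 1 = (Fintype.card F + 1) * (Fintype.card F - 1) := by
    obtain ⟨k, hk⟩ : ∃ k, Fintype.card F = k + 1 := ⟨Fintype.card F - 1, by omega⟩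
    rw [hk]
    simp only [Nat.add_sub_cancel]
    have : (k + 1) ^ 2 = (k + 1 + 1) * k + 1 := by ring
    omega
  rw [h3', ← h2] at hcG
  have h4 : (Fintype.card F + 1) * (2 * Nat.card H) =
      (Fintype.card F + 1) * (Fintype.card F * (Fintype.card F - 1)) := by
    calc (Fintype.card F + 1) * (2 * Nat.card H)
        = 2 * (Nat.card H * (Fintype.card F + 1)) := by ring
      _ = Fintype.card F * ((Fintype.card F + 1) * (Fintype.card F - 1)) := hcG
      _ = _ := by ring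
  rw [hcM]
  exact Nat.eq_of_mul_eq_mul_left (by omega) h4

end Cfsg.Agent.Lib.H5.PGL2Borel
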