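import Mathlib
import Cfsg.Agent.Lib.H5.PGL2.Ctx
import Cfsg.Agent.Lib.H5.PGL2.Embed
import Cfsg.Agent.Lib.H5.PSL2DihOdd
import Cfsg.Agent.Lib.H5.PSL2PPrime

/-!
# Maximal subgroups of `PGL₂(q)`: the torus case
-/

set_option autoImplicit false
set_option linter.style.haveILetI false

namespace Cfsg.Agent.Lib.H5.PGL2Torus

open Matrix Cfsg.Agent.Lib.H5.PSL2Torus Cfsg.Agent.Lib.H5.PGL2Basic Cfsg.Agent.Lib.H5.PGL2Ctx
  Cfsg.Agent.Lib.H5 Cfsg.Agent.Lib.H5.PSL2DihOdd

section Dihedral

variable {K : Type*} [Field K] [Fintype K]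

local notation "PSLK" => Matrix.ProjectiveSpecialLinearGroup (Fin 2) K

/-- a subgroup of the normalizer of a torus of `PSL₂(q)` which is not contained in the torus is
dihedral -/
theorem dihedral_of_le_normalizer_tb (hodd : Odd (Fintype.card K)) {y : PSLK} (hy : IsRegSS y)
    (M' : Subgroup PSLK) (hle : M' ≤ Subgroup.normalizer ((tb y : Subgroup PSLK) : Set PSLK))
    (hnot : ¬ M' ≤ tb y) :
    ∃ n : ℕ, Nat.card M' = 2 * n ∧ Nonempty (M' ≃* DihedralGroup n) := by
  have hy1 := isRegSS_ne_one hy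
  obtain ⟨s, hsM, hsT⟩ : ∃ s ∈ M', s ∉ tb y := by
    by_contra h
    push Not at h
    exact hnot h
  have hsy : s * y * s⁻¹ ∈ tb y := (mem_normalizer_tb_iff hy1 s).mp (hle hsM)
  obtain ⟨hss, hsinv⟩ := (conj_mem_cases hodd hy hsy).resolve_left hsT
  haveI := isCyclic_tb hodd hy
  haveI : IsCyclic ((tb y).subgroupOf M') := by
    obtain ⟨f, hf⟩ : ∃ f : (tb y).subgroupOf M' →* tb y,
        ∀ r : (tb y).subgroupOf M', ((f r : tb y) : PSLK) = ((r : M') : PSLK) :=
      ⟨{ toFun := fun r => ⟨((r : M') : PSLK), Subgroup.mem_subgroupOf.mp r.2⟩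
         map_one' := rfl
         map_mul' := fun a b => rfl }, fun r => rfl⟩
    apply isCyclic_of_injective f
    intro a b hab
    have := congrArg (fun t : tb y => (t : PSLK)) hab
    simp only [hf] at this
    exact Subtype.ext (Subtype.ext this)
  have hidx : ((tb y).subgroupOf M').index = 2 := by
    rw [Subgroup.index_eq_two_iff]
    refine ⟨⟨s, hsM⟩, ?_⟩
    intro b
    simp only [Subgroup.mem_subgroupOf, Subgroup.coe_mul]
    by_cases hb : (b : PSLK) ∈ tb y
    · right
      refine ⟨hb, ?_⟩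
      intro h
      apply hsT
      have e : s = (b : PSLK)⁻¹ * ((b : PSLK) * s) := by group
      rw [e]
      exact mul_mem (inv_mem hb) h
    · left
      refine ⟨?_, hb⟩
      exact mul_mem_of_inverting hodd hy ((mem_normalizer_tb_iff hy1 _).mp (hle b.2)) hb hsy hsT
  have hcard : Nat.card M' = 2 * Nat.card ((tb y).subgroupOf M') := by
    have := ((tb y).subgroupOf M').card_mul_index
    rw [hidx] at this
    omega
  refine ⟨Nat.card ((tb y).subgroupOf M'), hcard, ?_⟩
  apply dihedral_of_index_two ((tb y).subgroupOf M') (⟨s, hsM⟩ : M')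
  · intro h
    exact hsT (Subgroup.mem_subgroupOf.mp h)
  · exact Subtype.ext hss
  · intro t ht
    apply Subtype.ext
    have := hsinv _ (Subgroup.mem_subgroupOf.mp ht)
    simpa using this
  · exact hcard

/-- elements of a cyclic subgroup commute -/
theorem comm_of_mem_cyclic {G : Type*} [Group G] (Z : Subgroup G) [IsCyclic Z] {a b : G}
    (ha : a ∈ Z) (hb : b ∈ Z) : a * b = b * a := by
  obtain ⟨g, hg⟩ := IsCyclic.exists_generator (α := Z)
  obtain ⟨i, hi⟩ := Subgroup.mem_zpowers_iff.mp (hg ⟨a, ha⟩)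
  obtain ⟨j, hj⟩ := Subgroup.mem_zpowers_iff.mp (hg ⟨b, hb⟩)
  have hi' : a = (g : G) ^ i := by
    have := congrArg Subtype.val hi
    simpa using this.symm
  have hj' : b = (g : G) ^ j := by
    have := congrArg Subtype.val hj
    simpa using this.symm
  rw [hi', hj', ← _root_.zpow_add, ← _root_.zpow_add, add_comm]

end Dihedral

variable {F : Type*} [Field F] [Fintype F]

local notation "SL2" => Matrix.SpecialLinearGroup (Fin 2) F
local notation "M2" => Matrix (Fin 2) (Fin 2) F
local notation "PSL2" => Matrix.ProjectiveSpecialLinearGroup (Fin 2) F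
local notation "PGL2" => Matrix.ProjGenLinGroup (Fin 2) F

variable (p : ℕ) [Fact p.Prime] [CharP F p]

/-- **the torus case** -/
theorem torus_case (hodd : Odd (Fintype.card F)) (h3 : 3 < Fintype.card F)
    {M : Subgroup (Matrix.ProjGenLinGroup (Fin 2) F)} (hM : IsCoatom M)
    (hML : ¬ (T (F := F)).range ≤ M)
    (x : PSL2) (hx1 : x ≠ 1) (hpx : ¬ p ∣ orderOf x)
    (hinv : ∀ m ∈ M, autOf m x ∈ Subgroup.zpowers x) :
    IsRegSS x ∧ 3 ≤ Nat.card (tb x) ∧
      M.comap (T (F := F)) = Subgroup.normalizer ((tb x : Subgroup PSL2) : Set PSL2) ∧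
      ((2 * Nat.card (tb x) = Fintype.card F - 1 ∧ Fintype.card F ≠ 5 ∧
          Nonempty (M ≃* DihedralGroup (Fintype.card F - 1))) ∨
        (2 * Nat.card (tb x) = Fintype.card F + 1 ∧
          Nonempty (M ≃* DihedralGroup (Fintype.card F + 1)))) := by
  have hx : IsRegSS x := PSL2PPrime.isRegSS_of_not_dvd p hx1 hpx
  obtain ⟨H, hH⟩ : ∃ H : Subgroup PSL2, H = M.comap (T (F := F)) := ⟨_, rfl⟩
  rw [← hH]
  -- `M` is the normalizer of `⟨x⟩`
  have hCinv : ∀ m ∈ M, ∀ z ∈ Subgroup.zpowers x, autOf m z ∈ Subgroup.zpowers x := by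
    intro m hm z hz
    obtain ⟨k, rfl⟩ := Subgroup.mem_zpowers_iff.mp hz
    rw [map_zpow]
    exact zpow_mem (hinv m hm) k
  have hCb : Subgroup.zpowers x ≠ ⊥ := by
    intro h
    exact hx1 (Subgroup.zpowers_eq_bot.mp h)
  have hCt : Subgroup.zpowers x ≠ ⊤ := by
    intro h
    apply PSL2MinSimple.not_comm_psl2 (F := F)
    intro a b
    have ha : a ∈ Subgroup.zpowers x := by rw [h]; trivial
    have hb : b ∈ Subgroup.zpowers x := by rw [h]; trivial
    obtain ⟨i, rfl⟩ := Subgroup.mem_zpowers_iff.mp ha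
    obtain ⟨j, rfl⟩ := Subgroup.mem_zpowers_iff.mp hb
    rw [← _root_.zpow_add, ← _root_.zpow_add, add_comm]
  have hMN := eq_nrm h3 hM (Subgroup.zpowers x) hCb hCt hCinv
  have hHN := comap_eq_normalizer h3 hM (Subgroup.zpowers x) hCb hCt hCinv
  rw [← hH] at hHN
  haveI := isCyclic_tb hodd hx
  -- the normalizer of `⟨x⟩` is the normalizer of the torus
  have hNN : Subgroup.normalizer ((Subgroup.zpowers x : Subgroup PSL2) : Set PSL2) =
      Subgroup.normalizer ((tb x : Subgroup PSL2) : Set PSL2) := by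
    apply le_antisymm
    · intro a ha
      rw [mem_normalizer_tb_iff hx1]
      have := (Subgroup.mem_normalizer_iff.mp ha x).mp (Subgroup.mem_zpowers x)
      exact (Subgroup.zpowers_le.mpr (self_mem_tb x)) this
    · intro a ha
      have hax := (mem_normalizer_tb_iff hx1 a).mp ha
      have key : a * x * a⁻¹ ∈ Subgroup.zpowers x := by
        rcases conj_mem_cases hodd hx hax with h | ⟨-, h⟩
        · have hc : a * x = x * a := comm_of_mem_cyclic (tb x) h (self_mem_tb x)
          have : a * x * a⁻¹ = x := by rw [hc]; group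
          rw [this]
          exact Subgroup.mem_zpowers x
        · rw [h x (self_mem_tb x)]
          exact inv_mem (Subgroup.mem_zpowers x)
      apply mem_normalizer_of_forall_mem
      intro z hz
      obtain ⟨k, rfl⟩ := Subgroup.mem_zpowers_iff.mp hz
      have : a * x ^ k * a⁻¹ = (a * x * a⁻¹) ^ k := by
        rw [← MulAut.conj_apply, map_zpow, MulAut.conj_apply]
      rw [this]
      exact zpow_mem key k
  rw [hNN] at hHN
  have hcN := card_normalizer_tb hodd hx
  have hcH : Nat.card H = 2 * Nat.card (tb x) := by rw [hHN, hcN]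
  have hcM := card_eq hodd hM hML
  rw [← hH, hcH] at hcM
  have hctb := PSL2PPrime.card_tb hodd hx
  -- the torus has at least three elements
  have h3tb : 3 ≤ Nat.card (tb x) := by
    by_contra hlt
    push Not at hlt
    have h2 : Nat.card (tb x) = 2 := by
      rcases hctb with h | h <;> omega
    obtain ⟨e⟩ := normalizer_tb_dihedral hodd hx
    rw [h2, ← hHN] at e
    apply not_isKleinFour hodd h3 hM hML
    rw [← hH]
    exact ⟨by rw [Nat.card_congr e.toEquiv]; exact IsKleinFour.card_four,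
      by rw [Monoid.exponent_eq_of_mulEquiv e]; exact IsKleinFour.exponent_two⟩
  refine ⟨hx, h3tb, hHN, ?_⟩
  -- the dihedral structure
  obtain ⟨K, hKf, hKt, hKp, hKc, J, hJ⟩ := PGL2Embed.exists_embedding (F := F) p hodd
  have hoddK : Odd (Fintype.card K) := by rw [hKc]; exact hodd.pow
  obtain ⟨y, hy⟩ : ∃ y : Matrix.ProjectiveSpecialLinearGroup (Fin 2) K, y = J (T x) := ⟨_, rfl⟩
  have hJT : Function.Injective (J.comp (T (F := F))) := hJ.comp T_injective
  have hy1 : y ≠ 1 := by
    rw [hy]
    intro h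
    apply hx1
    exact hJT (h.trans (map_one _).symm)
  have hoy : orderOf y = orderOf x := by
    rw [hy]
    exact orderOf_injective (J.comp (T (F := F))) hJT x
  have hyR : IsRegSS y := PSL2PPrime.isRegSS_of_not_dvd p hy1 (by rw [hoy]; exact hpx)
  have hle : M.map J ≤ Subgroup.normalizer
      ((tb y : Subgroup (Matrix.ProjectiveSpecialLinearGroup (Fin 2) K)) : Set _) := by
    rintro _ ⟨m, hm, rfl⟩
    rw [mem_normalizer_tb_iff hy1]
    have h1 := hinv m hm
    have h2 : J m * y * (J m)⁻¹ = J (T (autOf m x)) := by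
      rw [T_autOf, hy, map_mul, map_mul, map_inv]
    rw [h2]
    obtain ⟨k, hk⟩ := Subgroup.mem_zpowers_iff.mp h1
    rw [← hk, map_zpow, map_zpow, ← hy]
    exact zpow_mem (self_mem_tb y) k
  have hnot : ¬ M.map J ≤ tb y := by
    intro hle'
    haveI := isCyclic_tb hoddK hyR
    -- then `M` is commutative, so `H` is, contradiction
    have hcomm : ∀ a b : PSL2, a ∈ H → b ∈ H → a * b = b * a := by
      intro a b ha hb
      have ha' : J (T a) ∈ tb y := hle' ⟨T a, by rw [hH] at ha; exact ha, rfl⟩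
      have hb' : J (T b) ∈ tb y := hle' ⟨T b, by rw [hH] at hb; exact hb, rfl⟩
      have h' := comm_of_mem_cyclic (tb y) ha' hb'
      apply hJT
      simpa using h'
    obtain ⟨s, hsT, hsx, -, hsinv⟩ := exists_inverting hodd hx
    have hsH : s ∈ H := by
      rw [hHN, mem_normalizer_tb_iff hx1]; exact hsx
    have htH : tb x ≤ H := by rw [hHN]; exact Subgroup.le_normalizer
    -- every element of the torus is an involution
    have hsq : ∀ t ∈ tb x, t * t = 1 := by
      intro t ht
      have h1 := hsinv t ht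
      have h2 := hcomm s t hsH (htH ht)
      have : t = t⁻¹ := by
        calc t = t * s * s⁻¹ := by group
          _ = s * t * s⁻¹ := by rw [h2]
          _ = t⁻¹ := h1
      calc t * t = t * t⁻¹ := by rw [← this]
        _ = 1 := mul_inv_cancel t
    obtain ⟨g, hg⟩ := IsCyclic.exists_generator (α := tb x)
    have hog : orderOf g = Nat.card (tb x) := orderOf_eq_card_of_forall_mem_zpowers hg
    have : orderOf g ∣ 2 := by
      apply orderOf_dvd_of_pow_eq_one
      rw [pow_two]
      exact Subtype.ext (hsq g g.2)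
    have := Nat.le_of_dvd (by norm_num) this
    omega
  obtain ⟨n, hn, ⟨e⟩⟩ := dihedral_of_le_normalizer_tb hoddK hyR (M.map J) hle hnot
  have e' : M ≃* M.map J := M.equivMapOfInjective J hJ
  have hcard : Nat.card M = 2 * n := by rw [Nat.card_congr e'.toEquiv, hn]
  rcases hctb with h | h
  · left
    refine ⟨h, ?_, ?_⟩
    · intro h5
      rw [h5] at h
      omega
    · have : n = Fintype.card F - 1 := by omega
      rw [← this]
      exact ⟨e'.trans e⟩
  · right
    refine ⟨h, ?_⟩
    have : n = Fintype.card F + 1 := by omega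
    rw [← this]
    exact ⟨e'.trans e⟩

end Cfsg.Agent.Lib.H5.PGL2Torus
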