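import Mathlib
import Cfsg.Agent.Lib.H5.PGL2.Torus

/-!
# Maximal subgroups of `PGL₂(q)`: `M ∩ L` cyclic or dihedral
-/

set_option autoImplicit false
set_option linter.style.haveILetI false

namespace Cfsg.Agent.Lib.H5.PGL2CycDih

open Matrix Cfsg.Agent.Lib.H5.PSL2Torus Cfsg.Agent.Lib.H5.PGL2Basic Cfsg.Agent.Lib.H5.PGL2Ctx
  Cfsg.Agent.Lib.H5 Cfsg.Agent.Lib.H5.PGL2Torus

variable {F : Type*} [Field F] [Fintype F]

local notation "SL2" => Matrix.SpecialLinearGroup (Fin 2) F
local notation "M2" => Matrix (Fin 2) (Fin 2) F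
local notation "PSL2" => Matrix.ProjectiveSpecialLinearGroup (Fin 2) F
local notation "PGL2" => Matrix.ProjGenLinGroup (Fin 2) F

variable (p : ℕ) [Fact p.Prime] [CharP F p]

/-- the conclusion of the torus case -/
def TorusConcl (M : Subgroup (Matrix.ProjGenLinGroup (Fin 2) F)) : Prop :=
  ∃ x : PSL2, IsRegSS x ∧ 3 ≤ Nat.card (tb x) ∧
    M.comap (T (F := F)) = Subgroup.normalizer ((tb x : Subgroup PSL2) : Set PSL2) ∧
    ((2 * Nat.card (tb x) = Fintype.card F - 1 ∧ Fintype.card F ≠ 5 ∧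
        Nonempty (M ≃* DihedralGroup (Fintype.card F - 1))) ∨
      (2 * Nat.card (tb x) = Fintype.card F + 1 ∧
        Nonempty (M ≃* DihedralGroup (Fintype.card F + 1))))

theorem cyclic_case (hodd : Odd (Fintype.card F)) (h3 : 3 < Fintype.card F)
    {M : Subgroup (Matrix.ProjGenLinGroup (Fin 2) F)} (hM : IsCoatom M)
    (hML : ¬ (T (F := F)).range ≤ M)
    (hpH : ¬ p ∣ Nat.card (M.comap (T (F := F))))
    (hc : IsCyclic (M.comap (T (F := F)))) : TorusConcl M := by
  obtain ⟨g, hg⟩ := IsCyclic.exists_generator (α := M.comap (T (F := F)))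
  have hb := comap_ne_bot hodd h3 hM hML
  have hle : ∀ h ∈ M.comap (T (F := F)), h ∈ Subgroup.zpowers (g : PSL2) := by
    intro h hh
    obtain ⟨k, hk⟩ := Subgroup.mem_zpowers_iff.mp (hg ⟨h, hh⟩)
    have := congrArg Subtype.val hk
    rw [Subgroup.mem_zpowers_iff]
    exact ⟨k, by simpa using this⟩
  have hg1 : (g : PSL2) ≠ 1 := by
    intro h
    apply hb
    rw [eq_bot_iff]
    intro y hy
    have := hle y hy
    rw [h, Subgroup.zpowers_one_eq_bot] at this
    exact this
  have hpg : ¬ p ∣ orderOf (g : PSL2) := by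
    intro hd
    apply hpH
    rw [Subgroup.orderOf_coe] at hd
    exact hd.trans (orderOf_dvd_natCard g)
  obtain ⟨h1, h2, h3', h4⟩ := torus_case p hodd h3 hM hML (g : PSL2) hg1 hpg
    (fun m hm => hle _ (autOf_mem hm g.2))
  exact ⟨_, h1, h2, h3', h4⟩

theorem dihedral_case (hodd : Odd (Fintype.card F)) (h3 : 3 < Fintype.card F)
    {M : Subgroup (Matrix.ProjGenLinGroup (Fin 2) F)} (hM : IsCoatom M)
    (hML : ¬ (T (F := F)).range ≤ M)
    (hpH : ¬ p ∣ Nat.card (M.comap (T (F := F))))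
    (k : ℕ) (e : M.comap (T (F := F)) ≃* DihedralGroup k) : TorusConcl M := by
  have hcard : Nat.card (M.comap (T (F := F))) = 2 * k := by
    rw [Nat.card_congr e.toEquiv, DihedralGroup.nat_card]
  have hpos : 0 < Nat.card (M.comap (T (F := F))) := Nat.card_pos
  have hk0 : k ≠ 0 := by
    rintro rfl
    omega
  by_cases hk1 : k = 1
  · subst hk1
    haveI : Fact (Nat.Prime 2) := ⟨Nat.prime_two⟩
    exact cyclic_case p hodd h3 hM hML hpH (isCyclic_of_prime_card (p := 2) (by rw [hcard]))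
  by_cases hk2 : k = 2
  · subst hk2
    exfalso
    apply not_isKleinFour hodd h3 hM hML
    exact ⟨by rw [hcard], by
      rw [Monoid.exponent_eq_of_mulEquiv e]; exact IsKleinFour.exponent_two⟩
  have hk3 : 3 ≤ k := by omega
  obtain ⟨x, hx⟩ : ∃ x : M.comap (T (F := F)), x = e.symm (DihedralGroup.r 1) := ⟨_, rfl⟩
  have hex : e x = DihedralGroup.r 1 := by rw [hx, MulEquiv.apply_symm_apply]
  have hox : orderOf (x : PSL2) = k := by
    rw [Subgroup.orderOf_coe, ← MulEquiv.orderOf_eq e, hex, DihedralGroup.orderOf_r_one]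
  have hx1 : (x : PSL2) ≠ 1 := by
    intro h
    rw [h, orderOf_one] at hox
    omega
  have hxx : (x : PSL2) * (x : PSL2) ≠ 1 := by
    intro h
    have : orderOf (x : PSL2) ∣ 2 := by
      apply orderOf_dvd_of_pow_eq_one
      rw [pow_two]; exact h
    rw [hox] at this
    have := Nat.le_of_dvd (by norm_num) this
    omega
  have hpx : ¬ p ∣ orderOf (x : PSL2) := by
    intro hd
    apply hpH
    rw [Subgroup.orderOf_coe] at hd
    exact hd.trans (orderOf_dvd_natCard x)
  have hcases : ∀ h ∈ M.comap (T (F := F)), h ∈ Subgroup.zpowers (x : PSL2) ∨ h * h = 1 := by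
    intro h hh
    rcases hd : e ⟨h, hh⟩ with i | i
    · left
      have h1 : (⟨h, hh⟩ : M.comap (T (F := F))) = x ^ (ZMod.val i) := by
        apply e.injective
        haveI : NeZero k := ⟨hk0⟩
        rw [map_pow, hex, hd, DihedralGroup.r_one_pow, ZMod.natCast_zmod_val]
      have h2 := congrArg Subtype.val h1
      rw [Subgroup.mem_zpowers_iff]
      exact ⟨(ZMod.val i : ℤ), by simpa using h2.symm⟩
    · right
      have h1 : (⟨h, hh⟩ : M.comap (T (F := F))) * ⟨h, hh⟩ = 1 := by
        apply e.injective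
        rw [map_mul, hd, DihedralGroup.sr_mul_self, map_one]
      exact congrArg Subtype.val h1
  obtain ⟨h1, h2, h3', h4⟩ := torus_case p hodd h3 hM hML (x : PSL2) hx1 hpx (by
    intro m hm
    rcases hcases _ (autOf_mem hm x.2) with h | h
    · exact h
    · exfalso
      apply hxx
      rw [← map_mul] at h
      exact (autOf m).injective (h.trans (map_one _).symm))
  exact ⟨_, h1, h2, h3', h4⟩

end Cfsg.Agent.Lib.H5.PGL2CycDih
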