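import Mathlib
import Cfsg.Agent.Lib.H5.PGL2.Klein
import Cfsg.Agent.Lib.H5.DicksonFull
import Cfsg.Agent.Lib.H5.PSL2Solvable

/-!
# Maximal subgroups of `PGL₂(q)`: `M ∩ L ≅ S₄`, `A₅` are impossible
-/

set_option autoImplicit false
set_option linter.style.haveILetI false

namespace Cfsg.Agent.Lib.H5.PGL2Exc

open Matrix Cfsg.Agent.Lib.H5.PSL2Torus Cfsg.Agent.Lib.H5.PGL2Basic Cfsg.Agent.Lib.H5.PGL2Ctx
  Cfsg.Agent.Lib.H5

variable {F : Type*} [Field F] [Fintype F]

local notation "SL2" => Matrix.SpecialLinearGroup (Fin 2) F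
local notation "M2" => Matrix (Fin 2) (Fin 2) F
local notation "PSL2" => Matrix.ProjectiveSpecialLinearGroup (Fin 2) F
local notation "PGL2" => Matrix.ProjGenLinGroup (Fin 2) F

/-- **the `S₄` case** is impossible -/
theorem S4_case (p : ℕ) [Fact p.Prime] [CharP F p] (hodd : Odd (Fintype.card F))
    (h3 : 3 < Fintype.card F)
    {M : Subgroup (Matrix.ProjGenLinGroup (Fin 2) F)} (hM : IsCoatom M)
    (hML : ¬ (T (F := F)).range ≤ M)
    (e : (M.comap (T (F := F)) : Subgroup PSL2) ≃* Equiv.Perm (Fin 4)) : False := by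
  obtain ⟨V, hVK, hVle, hVmem⟩ := KleinChar.exists_klein_char_S4 (M.comap (T (F := F))) e
  have hinv : ∀ m ∈ M, ∀ v ∈ V, autOf m v ∈ V := by
    intro m hm v hv
    rw [hVmem] at hv ⊢
    obtain ⟨hvH, hv2, y, hyH, hy⟩ := hv
    refine ⟨autOf_mem hm hvH, ?_, autOf m y, autOf_mem hm hyH, ?_⟩
    · rw [← map_mul, hv2, map_one]
    · rw [← map_mul, hy]
  obtain ⟨-, -, hle, -⟩ := PGL2Klein.klein_inv p hodd h3 hM V hVK hinv
  have hcH : Nat.card (M.comap (T (F := F))) = 24 := by
    rw [Nat.card_congr e.toEquiv, PSL2PrimeMax.card_perm_four]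
  rw [card_eq hodd hM hML, hcH] at hle
  omega

theorem not_mul_eq_240 {s : ℕ} (hs : s * (s ^ 2 - 1) = 240) : False := by
  have hle : s ≤ 6 := by
    by_contra hlt
    push Not at hlt
    have h7 : 7 ≤ s := hlt
    have : 7 * (7 ^ 2 - 1) ≤ s * (s ^ 2 - 1) :=
      Nat.mul_le_mul h7 (Nat.sub_le_sub_right (Nat.pow_le_pow_left h7 2) 1)
    omega
  interval_cases s <;> omega

theorem five_of_mul_eq_120 {s : ℕ} (hs : s * (s ^ 2 - 1) = 120) : s = 5 := by
  have hle : s ≤ 5 := by
    by_contra hlt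
    push Not at hlt
    have h6 : 6 ≤ s := hlt
    have : 6 * (6 ^ 2 - 1) ≤ s * (s ^ 2 - 1) :=
      Nat.mul_le_mul h6 (Nat.sub_le_sub_right (Nat.pow_le_pow_left h6 2) 1)
    omega
  interval_cases s <;> omega

/-- **the `A₅` case** is impossible for `p ≠ 5` -/
theorem A5_case (p : ℕ) [Fact p.Prime] [CharP F p] (hodd : Odd (Fintype.card F))
    {M : Subgroup (Matrix.ProjGenLinGroup (Fin 2) F)} (hM : IsCoatom M)
    (hML : ¬ (T (F := F)).range ≤ M) (hp5 : p ≠ 5)
    (e : (M.comap (T (F := F)) : Subgroup PSL2) ≃* alternatingGroup (Fin 5)) : False := by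
  have hpp : p.Prime := Fact.out
  have hcH : Nat.card (M.comap (T (F := F))) = 60 := by
    rw [Nat.card_congr e.toEquiv, PSL2PrimeMax.card_alt_five]
  have hcM : Nat.card M = 120 := by rw [card_eq hodd hM hML, hcH]
  obtain ⟨K, hKf, hKt, hKp, hKc, J, hJ⟩ := PGL2Embed.exists_embedding (F := F) p hodd
  have hoddK : Odd (Fintype.card K) := by rw [hKc]; exact hodd.pow
  have e' : M ≃* M.map J := M.equivMapOfInjective J hJ
  have hcM' : Nat.card (M.map J) = 120 := by rw [← Nat.card_congr e'.toEquiv, hcM]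
  -- `M` is not solvable
  have hns : ¬ Group.IsSolvable (M.map J) := by
    intro hsol
    haveI : Group.IsSolvable M := PSL2Solvable.isSolvable_of_mulEquiv e'
    have hinj : Function.Injective ((T (F := F)).subgroupComap M) := by
      intro a b hab
      apply Subtype.ext
      apply T_injective
      exact congrArg Subtype.val hab
    haveI : Group.IsSolvable (M.comap (T (F := F))) :=
      Group.isSolvable_of_isSolvable_injective hinj
    exact PSL2Solvable.not_isSolvable_alt_five (PSL2Solvable.isSolvable_of_mulEquiv e.symm)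
  rcases DicksonFull.classify_odd p hoddK (M.map J) with h | ⟨k, -, ⟨e₁⟩⟩ | ⟨⟨e₁⟩⟩ | ⟨⟨e₁⟩⟩ |
      ⟨⟨e₁⟩⟩ | ⟨-, P, hP⟩ | ⟨S, hS, -⟩ | ⟨S, hS, -⟩
  · haveI := h.1
    exact hns PSL2Solvable.isSolvable_of_isCyclic
  · haveI := PSL2Solvable.isSolvable_dihedral k
    exact hns (PSL2Solvable.isSolvable_of_mulEquiv e₁)
  · have := Nat.card_congr e₁.toEquiv
    rw [hcM', PSL2PrimeMax.card_alt_four] at this
    omega
  · have := Nat.card_congr e₁.toEquiv
    rw [hcM', PSL2PrimeMax.card_perm_four] at this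
    omega
  · have := Nat.card_congr e₁.toEquiv
    rw [hcM', PSL2PrimeMax.card_alt_five] at this
    omega
  · haveI := PSL2Solvable.isSolvable_normalizer_sylow p P
    exact hns (PSL2Solvable.isSolvable_of_le hP)
  · rw [hcM'] at hS
    exact not_mul_eq_240 hS.symm
  · rw [hcM'] at hS
    have hs5 := five_of_mul_eq_120 hS.symm
    haveI : Fintype S := Fintype.ofFinite S
    have h5K : ((5 : ℕ) : K) = 0 := by
      have h' : (S.subtype : ↥S →+* K) ((Fintype.card S : ℕ) : ↥S) = 0 := by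
        rw [Nat.cast_card_eq_zero, map_zero]
      rw [map_natCast, ← Nat.card_eq_fintype_card, hs5] at h'
      exact h'
    rw [CharP.cast_eq_zero_iff K p] at h5K
    exact hp5 ((Nat.prime_dvd_prime_iff_eq hpp (by norm_num)).mp h5K)

end Cfsg.Agent.Lib.H5.PGL2Exc
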