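import Mathlib
import Cfsg.Agent.Lib.H5.PGL2.Exc
import Cfsg.Agent.Lib.H5.PGL2.Std
import Cfsg.Agent.Lib.H5.DicksonOddGen3
import Cfsg.Agent.Lib.H5.PSL2MaxSub

/-!
# Maximal subgroups of `PGL₂(q)`: the subfield case
-/

set_option autoImplicit false
set_option linter.style.haveILetI false

namespace Cfsg.Agent.Lib.H5.PGL2Sub

section nf

open Cfsg.Agent.Lib.H1.DicksonBridge Cfsg.Agent.Lib.H1.SL2 Cfsg.Agent.Lib.H1.QdSec

variable {F : Type*} [Field F]

theorem cj_symm_trans (g h : (M2 F)ˣ) : (cj g).symm.trans (cj h).symm = cj (h⁻¹ * g⁻¹) := by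
  apply MulEquiv.ext
  intro M
  apply Subtype.ext
  rw [MulEquiv.trans_apply, cj_symm_coe, cj_symm_coe, cj_coe]
  simp [mul_assoc]

/-- **normal form** of two nontrivial unipotent elements with independent fixed vectors, with an
explicit conjugating matrix -/
theorem exists_normal_form' (x y : SL F) (v w : Fin 2 → F) (hx1 : x ≠ 1) (hy1 : y ≠ 1)
    (hxv : (x : M2 F).mulVec v = v) (hyw : (y : M2 F).mulVec w = w)
    (hδ : w 0 * v 1 - w 1 * v 0 ≠ 0) :
    ∃ (g : (M2 F)ˣ) (lam : F), lam ≠ 0 ∧ cj g x = ll 1 ∧ cj g y = uu lam := by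
  have hdet : (!![w 0, v 0; w 1, v 1] : M2 F).det ≠ 0 := by
    rw [Matrix.det_fin_two]; simpa [mul_comm] using hδ
  obtain ⟨g₀, hg₀⟩ : ∃ g₀ : (M2 F)ˣ, (g₀ : M2 F) = !![w 0, v 0; w 1, v 1] :=
    ⟨Matrix.GeneralLinearGroup.mkOfDetNeZero _ hdet, rfl⟩
  have he2 : (g₀ : M2 F).mulVec ![0, 1] = v := by
    rw [hg₀]; funext i; fin_cases i <;> simp [Matrix.mulVec, dotProduct, Fin.sum_univ_two]
  have he1 : (g₀ : M2 F).mulVec ![1, 0] = w := by
    rw [hg₀]; funext i; fin_cases i <;> simp [Matrix.mulVec, dotProduct, Fin.sum_univ_two]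
  have hx₁ := eq_ll_of_fixed _ (fixed_of_cj g₀ x v _ he2 hxv)
  have hy₁ := eq_uu_of_fixed _ (fixed_of_cj g₀ y w _ he1 hyw)
  obtain ⟨a, ha⟩ : ∃ a : F, a = (((cj g₀).symm x : SL F) : M2 F) 1 0 := ⟨_, rfl⟩
  obtain ⟨b, hb⟩ : ∃ b : F, b = (((cj g₀).symm y : SL F) : M2 F) 0 1 := ⟨_, rfl⟩
  rw [← ha] at hx₁
  rw [← hb] at hy₁
  have ha0 : a ≠ 0 := by
    intro h0
    rw [h0, ll_zero] at hx₁
    apply hx1
    have := congrArg (cj g₀) hx₁
    rwa [MulEquiv.apply_symm_apply, map_one] at this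
  have hb0 : b ≠ 0 := by
    intro h0
    rw [h0, uu_zero] at hy₁
    apply hy1
    have := congrArg (cj g₀) hy₁
    rwa [MulEquiv.apply_symm_apply, map_one] at this
  refine ⟨(dg a ha0)⁻¹ * g₀⁻¹, b * a, mul_ne_zero hb0 ha0, ?_, ?_⟩
  · rw [← cj_symm_trans, MulEquiv.trans_apply, hx₁, cj_dg_ll]
  · rw [← cj_symm_trans, MulEquiv.trans_apply, hy₁, cj_dg_uu]

end nf

section struc

open Matrix Cfsg.Agent.Lib.H12 Cfsg.Agent.Lib.H4.Dickson Cfsg.Agent.Lib.H5.DicksonOddGen
  Cfsg.Agent.Lib.H5.DicksonOdd Cfsg.Agent.Lib.H5.DicksonOddGen3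

variable {F : Type*} [Field F] [Finite F]

local notation "SL2" => Matrix.SpecialLinearGroup (Fin 2) F
local notation "M2" => Matrix (Fin 2) (Fin 2) F

variable (p : ℕ) [Fact p.Prime] [CharP F p]

/-- `structure_of_two_sylow` with an explicit conjugating matrix -/
theorem structure_of_two_sylow' (hp : p ≠ 2) (L : Subgroup SL2) (hneg : (-1 : SL2) ∈ L)
    (h2 : 1 < Nat.card (Sylow p L)) :
    (∃ (g : (M2)ˣ) (S : Subfield F),
      (Matrix.SpecialLinearGroup.map (n := Fin 2) (S.subtype : ↥S →+* F)).range ≤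
        L.map (Cfsg.Agent.Lib.H1.DicksonBridge.cj g).toMonoidHom ∧
      (∀ h ∈ L.map (Cfsg.Agent.Lib.H1.DicksonBridge.cj g).toMonoidHom, Shape S h)) ∨
    (p = 3 ∧ Nat.card L = 120) := by
  obtain ⟨x, y, v, w, hx, hy, hx1, hy1, hxv, hyw, hδ⟩ :=
    Cfsg.Agent.Lib.H1.DicksonBridge.exists_unipotent_pair (p := p) L h2
  obtain ⟨g, lam, hlam, hΘx, hΘy⟩ := exists_normal_form' x y v w hx1 hy1 hxv hyw hδ
  obtain ⟨Θ, hΘ⟩ : ∃ Θ : SL2 ≃* SL2, Θ = Cfsg.Agent.Lib.H1.DicksonBridge.cj g := ⟨_, rfl⟩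
  rw [← hΘ] at hΘx hΘy
  rw [ll_eq] at hΘx
  rw [uu_eq] at hΘy
  obtain ⟨L', hL'⟩ : ∃ L' : Subgroup SL2, L' = L.map Θ.toMonoidHom := ⟨_, rfl⟩
  have hcard : Nat.card L' = Nat.card L := by
    rw [hL']
    exact Nat.card_congr (L.equivMapOfInjective Θ.toMonoidHom Θ.injective).symm.toEquiv
  have hl1 : ll (1 : F) ∈ L' := by
    rw [hL', ← hΘx]; exact Subgroup.mem_map_of_mem _ hx
  have hul : uu lam ∈ L' := by
    rw [hL', ← hΘy]; exact Subgroup.mem_map_of_mem _ hy
  have hneg' : (-1 : SL2) ∈ L' := by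
    rw [hL', ← equiv_neg_one p hp Θ]; exact Subgroup.mem_map_of_mem _ hneg
  rw [← hcard]
  rcases dichotomy p hp hlam hul one_ne_zero hl1 with hidx | ⟨hq, hr, hidx⟩
  · left
    obtain ⟨S, hSA, -, hle, hc⟩ := generic_structure p hp hidx hlam hul hl1
    refine ⟨g, S, ?_, ?_⟩
    · rw [← hΘ, ← hL']; exact hle
    · rw [← hΘ, ← hL']
      intro h hh
      exact shape_of_mem hidx hl1 S (fun a => (hSA a).trans (mem_AA L').symm) h hh
  · right
    have hA : IsPGroup p (Multiplicative (AA L')) := by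
      intro a
      refine ⟨1, ?_⟩
      rw [pow_one]
      have : (p : ℕ) • (Multiplicative.toAdd a) = 0 := by
        apply Subtype.ext
        rw [AddSubgroup.coe_nsmul, nsmul_eq_mul, CharP.cast_eq_zero F p, zero_mul]
        rfl
      exact congrArg Multiplicative.ofAdd this
    obtain ⟨k, hk⟩ := hA.exists_card_eq
    rw [Nat.card_congr (Multiplicative.toAdd), hq] at hk
    have hk0 : k ≠ 0 := by rintro rfl; simp at hk
    have hp3 : p = 3 := by
      have : p ∣ 3 := by rw [hk]; exact dvd_pow_self p hk0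
      exact (Nat.prime_dvd_prime_iff_eq Fact.out Nat.prime_three).1 this
    subst hp3
    exact ⟨rfl, card_L_exc hq hr hidx hneg'⟩

end struc

section shape

open Matrix Cfsg.Agent.Lib.H12 Cfsg.Agent.Lib.H4.Dickson Cfsg.Agent.Lib.H5.DicksonOdd
  Cfsg.Agent.Lib.H5.PSL2MaxTwo Cfsg.Agent.Lib.H5.PGL2Std Cfsg.Agent.Lib.H1.DicksonBridge

variable {F : Type*} [Field F] [Fintype F]

local notation "SL2" => Matrix.SpecialLinearGroup (Fin 2) F
local notation "M2" => Matrix (Fin 2) (Fin 2) F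
local notation "GL2" => Matrix.GeneralLinearGroup (Fin 2) F

/-- the square of an element of normalizer shape has its entries in `S` -/
theorem sq_mem_subSL_of_shape (S : Subfield F) {h : SL2} (hs : Shape S h) : h * h ∈ subSL S := by
  obtain ⟨d, hd, hd2, h00, h10, h01, h11⟩ := hs
  have hdi : (d ^ 2)⁻¹ ∈ S := S.inv_mem hd2
  rw [mem_subSL_iff]
  intro i j
  fin_cases i <;> fin_cases j
  · show ((h * h : SL2) : M2) 0 0 ∈ S
    rw [mul_apply_00]
    have e : (h : M2) 0 0 * (h : M2) 0 0 + (h : M2) 0 1 * (h : M2) 1 0 =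
        ((h : M2) 0 0 * d⁻¹) * ((h : M2) 0 0 * d⁻¹) * d ^ 2 +
          ((h : M2) 0 1 * d) * ((h : M2) 1 0 * d⁻¹) := by
      field_simp
    rw [e]
    exact S.add_mem (S.mul_mem (S.mul_mem h00 h00) hd2) (S.mul_mem h01 h10)
  · show ((h * h : SL2) : M2) 0 1 ∈ S
    rw [mul_apply_01]
    have e : (h : M2) 0 0 * (h : M2) 0 1 + (h : M2) 0 1 * (h : M2) 1 1 =
        ((h : M2) 0 0 * d⁻¹) * ((h : M2) 0 1 * d) +
          ((h : M2) 0 1 * d) * ((h : M2) 1 1 * d) * (d ^ 2)⁻¹ := by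
      field_simp
    rw [e]
    exact S.add_mem (S.mul_mem h00 h01) (S.mul_mem (S.mul_mem h01 h11) hdi)
  · show ((h * h : SL2) : M2) 1 0 ∈ S
    rw [mul_apply_10]
    have e : (h : M2) 1 0 * (h : M2) 0 0 + (h : M2) 1 1 * (h : M2) 1 0 =
        ((h : M2) 1 0 * d⁻¹) * ((h : M2) 0 0 * d⁻¹) * d ^ 2 +
          ((h : M2) 1 1 * d) * ((h : M2) 1 0 * d⁻¹) := by
      field_simp
    rw [e]
    exact S.add_mem (S.mul_mem (S.mul_mem h10 h00) hd2) (S.mul_mem h11 h10)
  · show ((h * h : SL2) : M2) 1 1 ∈ S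
    rw [mul_apply_11]
    have e : (h : M2) 1 0 * (h : M2) 0 1 + (h : M2) 1 1 * (h : M2) 1 1 =
        ((h : M2) 1 0 * d⁻¹) * ((h : M2) 0 1 * d) +
          ((h : M2) 1 1 * d) * ((h : M2) 1 1 * d) * (d ^ 2)⁻¹ := by
      field_simp
    rw [e]
    exact S.add_mem (S.mul_mem h10 h01) (S.mul_mem (S.mul_mem h11 h11) hdi)

/-- an element of odd order of normalizer shape has its entries in `S` -/
theorem mem_subSL_of_shape_of_pow (S : Subfield F) {h : SL2} (hs : Shape S h) {n : ℕ} (hn : Odd n)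
    (hpow : h ^ n = 1) : h ∈ subSL S := by
  obtain ⟨k, rfl⟩ := hn
  have e : h = (h * h) ^ (k + 1) := by
    rw [← pow_two, ← pow_mul]
    have : 2 * (k + 1) = (2 * k + 1) + 1 := by ring
    rw [this, pow_succ, hpow, one_mul]
  rw [e]
  exact Subgroup.pow_mem _ (sq_mem_subSL_of_shape S hs) _

/-- elements of normalizer shape lie in `PGL₂(S)` -/
theorem mk_toGL_mem_pglStd_of_shape (S : Subfield F) {h : SL2} (hs : Shape S h) :
    Matrix.ProjGenLinGroup.mk (Matrix.SpecialLinearGroup.toGL h) ∈ pglStd S := by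
  obtain ⟨d, hd, hd2, h00, h10, h01, h11⟩ := hs
  apply mk_mem_pglStd_of_entries S _ d⁻¹
  intro i j
  fin_cases i <;> fin_cases j
  · refine ⟨(h : M2) 0 0 * d⁻¹ * d ^ 2, S.mul_mem h00 hd2, ?_⟩
    show (h : M2) 0 0 = _
    field_simp
  · refine ⟨(h : M2) 0 1 * d, h01, ?_⟩
    show (h : M2) 0 1 = _
    field_simp
  · refine ⟨(h : M2) 1 0 * d⁻¹ * d ^ 2, S.mul_mem h10 hd2, ?_⟩
    show (h : M2) 1 0 = _
    field_simp
  · refine ⟨(h : M2) 1 1 * d, h11, ?_⟩
    show (h : M2) 1 1 = _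
    field_simp

/-- a matrix conjugating the two elementary matrices into `SL₂(S)` lies in `F^× GL₂(S)` -/
theorem mk_mem_pglStd_of_conj (S : Subfield F) (z : GL2)
    (hu : cj z (uu 1) ∈ subSL S) (hl : cj z (ll 1) ∈ subSL S) :
    Matrix.ProjGenLinGroup.mk z ∈ pglStd S := by
  rw [mem_subSL_iff] at hu hl
  obtain ⟨Z, hZ⟩ : ∃ Z : M2, Z = (z : M2) := ⟨_, rfl⟩
  obtain ⟨W, hW⟩ : ∃ W : M2, W = ((z⁻¹ : GL2) : M2) := ⟨_, rfl⟩
  have hZW : Z * W = 1 := by rw [hZ, hW]; exact Units.mul_inv z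
  have hWZ : W * Z = 1 := by rw [hZ, hW]; exact Units.inv_mul z
  have one_mem : ∀ k l : Fin 2, (1 : M2) k l ∈ S := by
    intro k l
    by_cases hkl : k = l
    · rw [hkl, Matrix.one_apply_eq]; exact S.one_mem
    · rw [Matrix.one_apply_ne hkl]; exact S.zero_mem
  have hA : ∀ k l, Z k 0 * W 1 l ∈ S := by
    intro k l
    have e : Z k 0 * W 1 l = ((cj z (uu 1) : SL2) : M2) k l - (1 : M2) k l := by
      rw [cj_coe, ← hZ, ← hW, ← hZW, uu_val]
      simp only [Matrix.mul_apply, Fin.sum_univ_two, Matrix.of_apply, Matrix.cons_val_zero,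
        Matrix.cons_val_one, Matrix.cons_val', Matrix.cons_val_fin_one]
      ring
    rw [e]
    exact S.sub_mem (hu k l) (one_mem k l)
  have hB : ∀ k l, Z k 1 * W 0 l ∈ S := by
    intro k l
    have e : Z k 1 * W 0 l = ((cj z (ll 1) : SL2) : M2) k l - (1 : M2) k l := by
      rw [cj_coe, ← hZ, ← hW, ← hZW, ll_val]
      simp only [Matrix.mul_apply, Fin.sum_univ_two, Matrix.of_apply, Matrix.cons_val_zero,
        Matrix.cons_val_one, Matrix.cons_val', Matrix.cons_val_fin_one]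
      ring
    rw [e]
    exact S.sub_mem (hl k l) (one_mem k l)
  have h11 : W 1 0 * Z 0 1 + W 1 1 * Z 1 1 = 1 := by
    have := congrFun (congrFun hWZ 1) 1
    rwa [Matrix.mul_apply, Fin.sum_univ_two, Matrix.one_apply_eq] at this
  have h00 : W 0 0 * Z 0 0 + W 0 1 * Z 1 0 = 1 := by
    have := congrFun (congrFun hWZ 0) 0
    rwa [Matrix.mul_apply, Fin.sum_univ_two, Matrix.one_apply_eq] at this
  have hC : ∀ k l, Z k 0 * W 0 l ∈ S := by
    intro k l
    have e : Z k 0 * W 0 l = (Z k 0 * W 1 0) * (Z 0 1 * W 0 l) + (Z k 0 * W 1 1) * (Z 1 1 * W 0 l) := by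
      linear_combination (-(Z k 0 * W 0 l)) * h11
    rw [e]
    exact S.add_mem (S.mul_mem (hA k 0) (hB 0 l)) (S.mul_mem (hA k 1) (hB 1 l))
  have hD : ∀ k l, Z k 1 * W 1 l ∈ S := by
    intro k l
    have e : Z k 1 * W 1 l = (Z k 1 * W 0 0) * (Z 0 0 * W 1 l) + (Z k 1 * W 0 1) * (Z 1 0 * W 1 l) := by
      linear_combination (-(Z k 1 * W 1 l)) * h00
    rw [e]
    exact S.add_mem (S.mul_mem (hB k 0) (hA 0 l)) (S.mul_mem (hB k 1) (hA 1 l))
  have hall : ∀ k i j l, Z k i * W j l ∈ S := by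
    intro k i j l
    fin_cases i <;> fin_cases j
    · exact hC k l
    · exact hA k l
    · exact hB k l
    · exact hD k l
  have hWne : ∃ j l, W j l ≠ 0 := by
    by_contra hcon
    push Not at hcon
    have : (1 : F) = 0 := by rw [← h00, hcon 0 0, hcon 0 1]; ring
    exact one_ne_zero this
  obtain ⟨j, l, hjl⟩ := hWne
  apply mk_mem_pglStd_of_entries S z (W j l)⁻¹
  intro k i
  refine ⟨Z k i * W j l, hall k i j l, ?_⟩
  rw [← hZ]
  field_simp

end shape

section core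

open Matrix Cfsg.Agent.Lib.H12 Cfsg.Agent.Lib.H4.Dickson Cfsg.Agent.Lib.H5.DicksonOdd
  Cfsg.Agent.Lib.H5.PSL2MaxTwo Cfsg.Agent.Lib.H5.PGL2Std Cfsg.Agent.Lib.H1.DicksonBridge
  Cfsg.Agent.Lib.H5.PGL2Basic Cfsg.Agent.Lib.H5.PSL2Torus Cfsg.Agent.Lib.H5

variable {F : Type*} [Field F] [Fintype F]

local notation "SL2" => Matrix.SpecialLinearGroup (Fin 2) F
local notation "M2" => Matrix (Fin 2) (Fin 2) F
local notation "GL2" => Matrix.GeneralLinearGroup (Fin 2) F
local notation "PSL2" => Matrix.ProjectiveSpecialLinearGroup (Fin 2) F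
local notation "PGL2" => Matrix.ProjGenLinGroup (Fin 2) F

omit [Fintype F] in
theorem ll_nsmul (a : F) (n : ℕ) : (ll (n • a) : SL2) = (ll a) ^ n := by
  induction n with
  | zero => simp [ll_zero]
  | succ n ih => rw [succ_nsmul, ll_add, ih, pow_succ]

omit [Fintype F] in
theorem ll_pow_char (p : ℕ) [CharP F p] (a : F) : (ll a : SL2) ^ p = 1 := by
  rw [← ll_nsmul, nsmul_eq_mul, CharP.cast_eq_zero F p, zero_mul, ll_zero]

omit [Fintype F] in
theorem uu_pow_char' (p : ℕ) [CharP F p] (a : F) : (uu a : SL2) ^ p = 1 := by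
  rw [← uu_nsmul, nsmul_eq_mul, CharP.cast_eq_zero F p, zero_mul, uu_zero]

theorem uu_one_mem_subSL (S : Subfield F) : (uu (1 : F) : SL2) ∈ subSL S := by
  rw [mem_subSL_iff]
  intro i j
  fin_cases i <;> fin_cases j
  · show (uu (1 : F) : SL2).1 0 0 ∈ S
    rw [uu_00]; exact S.one_mem
  · show (uu (1 : F) : SL2).1 0 1 ∈ S
    rw [uu_01]; exact S.one_mem
  · show (uu (1 : F) : SL2).1 1 0 ∈ S
    rw [uu_10]; exact S.zero_mem
  · show (uu (1 : F) : SL2).1 1 1 ∈ S
    rw [uu_11]; exact S.one_mem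

theorem ll_one_mem_subSL (S : Subfield F) : (ll (1 : F) : SL2) ∈ subSL S := by
  rw [mem_subSL_iff]
  intro i j
  fin_cases i <;> fin_cases j
  · show (ll (1 : F) : SL2).1 0 0 ∈ S
    rw [ll_00]; exact S.one_mem
  · show (ll (1 : F) : SL2).1 0 1 ∈ S
    rw [ll_01]; exact S.zero_mem
  · show (ll (1 : F) : SL2).1 1 0 ∈ S
    rw [ll_10]; exact S.one_mem
  · show (ll (1 : F) : SL2).1 1 1 ∈ S
    rw [ll_11]; exact S.one_mem

/-- **`M = PGL₂(S)`**: a maximal subgroup containing `PSL₂(S)` all of whose elements in `L` have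
normalizer shape over `S` is `PGL₂(S)` -/
theorem eq_pglStd (p : ℕ) [Fact p.Prime] [CharP F p] (hodd : Odd (Fintype.card F))
    {M : Subgroup (Matrix.ProjGenLinGroup (Fin 2) F)} (hM : IsCoatom M)
    (hML : ¬ (T (F := F)).range ≤ M) (S : Subfield F)
    (h1 : ∀ h : SL2, h ∈ subSL S → T (pr h) ∈ M)
    (h2 : ∀ h : SL2, T (pr h) ∈ M → Shape S h) : M = pglStd S := by
  have hpodd : Odd p := by
    obtain ⟨n, -, hn⟩ := FiniteField.card F p
    rw [hn] at hodd
    exact (Nat.odd_pow_iff n.ne_zero).mp hodd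
  have hle : M ≤ pglStd S := by
    intro m hm
    induction m using Matrix.ProjGenLinGroup.induction_on with | mk z =>
    have key : ∀ u : SL2, u ∈ subSL S → u ^ p = 1 → cj z u ∈ subSL S := by
      intro u hu hup
      have h3 : T (pr (cj z u)) ∈ M := by
        rw [← conj_T_pr]
        exact M.mul_mem (M.mul_mem hm (h1 u hu)) (M.inv_mem hm)
      apply mem_subSL_of_shape_of_pow S (h2 _ h3) hpodd
      rw [← map_pow, hup, map_one]
    exact mk_mem_pglStd_of_conj S z (key _ (uu_one_mem_subSL S) (uu_pow_char' p 1))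
      (key _ (ll_one_mem_subSL S) (ll_pow_char p 1))
  rcases hM.le_iff.mp hle with htop | heq
  · exfalso
    have hS := eq_top_of_pglStd_eq_top S htop
    apply hML
    rintro _ ⟨x, rfl⟩
    obtain ⟨h, rfl⟩ := pr_surjective x
    apply h1
    rw [mem_subSL_iff, hS]
    intro i j
    exact Subfield.mem_top _
  · exact heq.symm

/-- **the subfield case, standard position**: if `M = PGL₂(S)` is maximal and does not contain `L`
then `[F : S]` is an odd prime and `M ∩ L` is maximal in `L` -/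
theorem of_eq_pglStd (hodd : Odd (Fintype.card F))
    {M : Subgroup (Matrix.ProjGenLinGroup (Fin 2) F)} (hM : IsCoatom M)
    (hML : ¬ (T (F := F)).range ≤ M) (S : Subfield F) (hMS : M = pglStd S) :
    (∃ (F₀ : Type) (_ : Field F₀) (_ : Fintype F₀) (r : ℕ), r.Prime ∧ Odd r ∧
      Fintype.card F = Fintype.card F₀ ^ r ∧
      Nonempty (M ≃* Matrix.ProjGenLinGroup (Fin 2) F₀)) ∧
    IsCoatom (M.comap (T (F := F))) := by
  haveI : Fintype S := Fintype.ofFinite S
  -- no intermediate fields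
  have hE : ∀ E : IntermediateField S F, E = ⊥ ∨ E = ⊤ := by
    intro E
    have hSE : S ≤ E.toSubfield := by
      intro a ha
      exact E.algebraMap_mem ⟨a, ha⟩
    have hle : M ≤ pglStd E.toSubfield := by rw [hMS]; exact pglStd_mono hSE
    rcases hM.le_iff.1 hle with h | h
    · right
      rw [eq_top_iff]
      intro a _
      have : (⊤ : Subfield F) ≤ E.toSubfield := by
        rw [eq_top_of_pglStd_eq_top _ h]
      exact this (Subfield.mem_top a)
    · left
      rw [eq_bot_iff]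
      intro a ha
      have : a ∈ S := le_of_pglStd_le (S := S) (S' := E.toSubfield) (by rw [h, hMS]) ha
      rw [IntermediateField.mem_bot]
      exact ⟨⟨a, this⟩, rfl⟩
  have hne : (⊥ : IntermediateField S F) ≠ ⊤ := by
    intro h
    apply hM.1
    rw [hMS]
    have hS : S = ⊤ := by
      rw [eq_top_iff]
      intro a _
      have : a ∈ (⊥ : IntermediateField S F) := by
        rw [h]; exact IntermediateField.mem_top
      rw [IntermediateField.mem_bot] at this
      obtain ⟨s, hs⟩ := this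
      rw [← hs]
      exact s.2
    rw [hS, pglStd_top]
  have hr := finrank_prime_of_simple S hE hne
  have hq := PSL2MaxSub.card_pow_finrank S
  rw [Nat.card_eq_fintype_card] at hq
  have hr2 : Module.finrank S F ≠ 2 := by
    intro h2
    rw [h2] at hq
    have hsq := Cfsg.Agent.S0805.exists_sqrt (S.subtype : ↥S →+* F) hodd 2 (by decide) hq.symm
    have hle : M ≤ (T (F := F)).range := by
      rw [hMS]
      rintro _ ⟨x, rfl⟩
      exact PSL2Subfield.pglMap_mem_range_toPGL _ hsq x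
    rcases hM.le_iff.1 hle with h | h
    · have hidx := index_range hodd
      rw [h, Subgroup.index_top] at hidx
      omega
    · exact hML h.le
  have hrodd : Odd (Module.finrank S F) := hr.odd_of_ne_two hr2
  have hSodd : Odd (Fintype.card S) := by
    rw [hq] at hodd
    exact (Nat.odd_pow_iff hr.ne_zero).mp hodd
  constructor
  · obtain ⟨F₀, hF₀, hF₀', hc, ⟨e⟩⟩ := exists_type0_copy S
    refine ⟨F₀, hF₀, hF₀', Module.finrank S F, hr, hrodd, ?_, ⟨?_⟩⟩
    · rw [hc, Nat.card_eq_fintype_card]; exact hq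
    · have e1 : Matrix.ProjGenLinGroup (Fin 2) S ≃* pglStd S :=
        MonoidHom.ofInjective (PSL2Subfield.pglMap_injective (S.subtype : ↥S →+* F))
      exact ((MulEquiv.subgroupCongr hMS).trans e1.symm).trans (PSL2Iso.pglMapEquiv e)
  · have hco := PSL2SubfieldMax.isCoatom_range (S.subtype : ↥S →+* F) (Fintype.card S)
      (Module.finrank S F) rfl hq hSodd hr hr2
    have hle : (PSL2Subfield.slToPSL (S.subtype : ↥S →+* F)).range ≤ M.comap (T (F := F)) := by
      rintro _ ⟨g₀, rfl⟩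
      rw [Subgroup.mem_comap, hMS]
      show T (pr (Matrix.SpecialLinearGroup.map (S.subtype : ↥S →+* F) g₀)) ∈ pglStd S
      rw [T_pr]
      apply mk_mem_pglStd_of_entries S _ 1
      intro i j
      refine ⟨_, ?_, (one_mul _).symm⟩
      show (Matrix.SpecialLinearGroup.map (S.subtype : ↥S →+* F) g₀ : M2) i j ∈ S
      rw [PSL2SubfieldMax.map_entry]
      exact SetLike.coe_mem _
    rcases hco.le_iff.1 hle with h | h
    · exact absurd h (PGL2Ctx.comap_ne_top (F := F) hML)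
    · rw [h]; exact hco

end core

section conj

open Matrix Cfsg.Agent.Lib.H12 Cfsg.Agent.Lib.H4.Dickson Cfsg.Agent.Lib.H5.DicksonOdd
  Cfsg.Agent.Lib.H5.PSL2MaxTwo Cfsg.Agent.Lib.H5.PGL2Std Cfsg.Agent.Lib.H1.DicksonBridge
  Cfsg.Agent.Lib.H5.PGL2Basic Cfsg.Agent.Lib.H5.PSL2Torus Cfsg.Agent.Lib.H5

variable {F : Type*} [Field F] [Fintype F]

local notation "SL2" => Matrix.SpecialLinearGroup (Fin 2) F
local notation "M2" => Matrix (Fin 2) (Fin 2) F
local notation "GL2" => Matrix.GeneralLinearGroup (Fin 2) F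
local notation "PSL2" => Matrix.ProjectiveSpecialLinearGroup (Fin 2) F
local notation "PGL2" => Matrix.ProjGenLinGroup (Fin 2) F

omit [Fintype F] in
/-- conjugating `M` conjugates `M ∩ L` -/
theorem comap_map_conj (m₀ : PGL2) (M : Subgroup PGL2) :
    (M.map (MulAut.conj m₀).toMonoidHom).comap (T (F := F)) =
      (M.comap (T (F := F))).map (autOf m₀).toMonoidHom := by
  ext x
  rw [Subgroup.mem_comap, Subgroup.mem_map_equiv, Subgroup.mem_map_equiv, Subgroup.mem_comap]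
  have e : T ((autOf m₀).symm x) = (MulAut.conj m₀).symm (T x) := by
    have h1 : (autOf m₀).symm = autOf (F := F) m₀⁻¹ := by
      rw [map_inv]; rfl
    rw [h1, T_autOf, MulAut.conj_symm_apply, inv_inv]
  rw [e]

omit [Fintype F] in
theorem isCoatom_comap_of_conj (m₀ : PGL2) (M : Subgroup PGL2)
    (h : IsCoatom ((M.map (MulAut.conj m₀).toMonoidHom).comap (T (F := F)))) :
    IsCoatom (M.comap (T (F := F))) := by
  rw [comap_map_conj] at h
  exact (OrderIso.isCoatom_iff (autOf m₀).mapSubgroup _).mp h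

omit [Fintype F] in
theorem not_range_le_conj (m₀ : PGL2) {M : Subgroup PGL2} (hML : ¬ (T (F := F)).range ≤ M) :
    ¬ (T (F := F)).range ≤ M.map (MulAut.conj m₀).toMonoidHom := by
  intro h
  apply hML
  intro x hx
  have h1 : m₀ * x * m₀⁻¹ ∈ (T (F := F)).range := normal_range.conj_mem x hx m₀
  obtain ⟨y, hy, hyx⟩ := h h1
  have hyx' : m₀ * y * m₀⁻¹ = m₀ * x * m₀⁻¹ := hyx
  have : y = x := by
    have := mul_right_cancel hyx'
    exact mul_left_cancel this
  rw [← this]; exact hy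

/-- **the subfield case**: if `M ∩ L` has more than one Sylow `p`-subgroup then `M ≅ PGL₂(q₀)`,
`q = q₀ ^ r` with `r` an odd prime, and `M ∩ L` is maximal in `L` -/
theorem sub_case (p : ℕ) [Fact p.Prime] [CharP F p] (hodd : Odd (Fintype.card F))
    {M : Subgroup (Matrix.ProjGenLinGroup (Fin 2) F)} (hM : IsCoatom M)
    (hML : ¬ (T (F := F)).range ≤ M)
    (hsyl : 1 < Nat.card (Sylow p (M.comap (T (F := F))))) :
    (∃ (F₀ : Type) (_ : Field F₀) (_ : Fintype F₀) (r : ℕ), r.Prime ∧ Odd r ∧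
      Fintype.card F = Fintype.card F₀ ^ r ∧
      Nonempty (M ≃* Matrix.ProjGenLinGroup (Fin 2) F₀)) ∧
    IsCoatom (M.comap (T (F := F))) := by
  have h2F : (2 : F) ≠ 0 := two_ne_zero_of_odd hodd
  have hp2 : p ≠ 2 := by
    rintro rfl
    apply h2F
    have := CharP.cast_eq_zero F 2
    exact_mod_cast this
  obtain ⟨H, hH⟩ : ∃ H : Subgroup PSL2, H = M.comap (T (F := F)) := ⟨_, rfl⟩
  rw [← hH] at hsyl
  have hneg : (-1 : SL2) ∈ H.comap pr := by
    rw [Subgroup.mem_comap, PSL2SubfieldMax.pr_neg_one]; exact H.one_mem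
  have hL2 : 1 < Nat.card (Sylow p (H.comap (pr (F := F)))) := by
    have hs : Function.Surjective ((pr (F := F)).subgroupComap H) :=
      MonoidHom.subgroupComap_surjective_of_surjective pr H pr_surjective
    have := Nat.card_le_card_of_surjective _ (Sylow.mapSurjective_surjective hs p)
    omega
  rcases structure_of_two_sylow' p hp2 (H.comap pr) hneg hL2 with ⟨g, S, hle, hshape⟩ | ⟨h3, hc⟩
  · obtain ⟨M', hM'def⟩ : ∃ M' : Subgroup PGL2,
        M' = M.map (MulAut.conj (Matrix.ProjGenLinGroup.mk g)).toMonoidHom := ⟨_, rfl⟩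
    have hM' : IsCoatom M' := by
      rw [hM'def]; exact PSL2MaxExc.isCoatom_map_equiv _ hM
    have hML' : ¬ (T (F := F)).range ≤ M' := by
      rw [hM'def]; exact not_range_le_conj _ hML
    have key : ∀ h : SL2, T (pr h) ∈ M' ↔ h ∈ (H.comap pr).map (cj g).toMonoidHom := by
      intro h
      rw [← Subgroup.mem_comap, hM'def, comap_map_conj, Subgroup.mem_map_equiv,
        Subgroup.mem_map_equiv, ← hH]
      have e : (autOf (Matrix.ProjGenLinGroup.mk g)).symm (pr h) = pr ((cj g).symm h) := by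
        rw [MulEquiv.symm_apply_eq, autOf_mk_pr, MulEquiv.apply_symm_apply]
      rw [e, Subgroup.mem_comap]
    have h1 : ∀ h : SL2, h ∈ subSL S → T (pr h) ∈ M' := fun h hh => (key h).mpr (hle hh)
    have h2 : ∀ h : SL2, T (pr h) ∈ M' → Shape S h := fun h hh => hshape h ((key h).mp hh)
    have hMS := eq_pglStd p hodd hM' hML' S h1 h2
    obtain ⟨⟨F₀, hF₀, hF₀', r, hr, hrodd, hq, ⟨e⟩⟩, hco⟩ := of_eq_pglStd hodd hM' hML' S hMS
    have e' : M ≃* M' := by
      rw [hM'def]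
      exact M.equivMapOfInjective _ (MulAut.conj (Matrix.ProjGenLinGroup.mk g)).injective
    refine ⟨⟨F₀, hF₀, hF₀', r, hr, hrodd, hq, ⟨e'.trans e⟩⟩, ?_⟩
    rw [hM'def] at hco
    exact isCoatom_comap_of_conj _ _ hco
  · exfalso
    subst h3
    rw [PSL2SubfieldMax.card_comap_pr hodd] at hc
    obtain ⟨e⟩ := PSL2CharThree.alt_five_of_card hodd H (by omega)
    rw [hH] at e
    exact PGL2Exc.A5_case 3 hodd hM hML (by norm_num) e

end conj

end Cfsg.Agent.Lib.H5.PGL2Sub
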