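import Mathlib
import Cfsg.Agent.Lib.H5.PGL2.Borel
import Cfsg.Agent.Lib.H5.PGL2.CycDih
import Cfsg.Agent.Lib.H5.PGL2.A4
import Cfsg.Agent.Lib.H5.PGL2.Exc
import Cfsg.Agent.Lib.H5.PGL2.Sub

/-!
# Maximal subgroups of `PGL₂(q)` not containing `PSL₂(q)`, `q` odd: the classification
-/

set_option autoImplicit false
set_option linter.style.haveILetI false

namespace Cfsg.Agent.Lib.H5.PGL2Main

open Matrix Cfsg.Agent.Lib.H5.PSL2Torus Cfsg.Agent.Lib.H5.PGL2Basic Cfsg.Agent.Lib.H5.PGL2Ctx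
  Cfsg.Agent.Lib.H5 Cfsg.Agent.Lib.H5.PGL2CycDih

variable {F : Type*} [Field F] [Fintype F]

local notation "SL2" => Matrix.SpecialLinearGroup (Fin 2) F
local notation "M2" => Matrix (Fin 2) (Fin 2) F
local notation "PSL2" => Matrix.ProjectiveSpecialLinearGroup (Fin 2) F
local notation "PGL2" => Matrix.ProjGenLinGroup (Fin 2) F

/-- **maximal subgroups of `PGL₂(q)` not containing `PSL₂(q)`**, `q > 3` odd: structural form -/
theorem classify (p : ℕ) [Fact p.Prime] [CharP F p] (hodd : Odd (Fintype.card F))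
    (h3 : 3 < Fintype.card F)
    {M : Subgroup (Matrix.ProjGenLinGroup (Fin 2) F)} (hM : IsCoatom M)
    (hML : ¬ (T (F := F)).range ≤ M) :
    ((∃ P : Sylow p PSL2, M.comap (T (F := F)) =
        Subgroup.normalizer ((P : Subgroup PSL2) : Set PSL2)) ∧
      Nat.card M = Fintype.card F * (Fintype.card F - 1)) ∨
    TorusConcl M ∨
    ((Fintype.card F).Prime ∧ (Fintype.card F % 8 = 3 ∨ Fintype.card F % 8 = 5) ∧
      Nonempty (M ≃* Equiv.Perm (Fin 4)) ∧
      ∃ V : Subgroup PSL2, IsKleinFour V ∧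
        M.comap (T (F := F)) = Subgroup.normalizer (V : Set PSL2)) ∨
    ((∃ (F₀ : Type) (_ : Field F₀) (_ : Fintype F₀) (r : ℕ), r.Prime ∧ Odd r ∧
        Fintype.card F = Fintype.card F₀ ^ r ∧
        Nonempty (M ≃* Matrix.ProjGenLinGroup (Fin 2) F₀)) ∧
      IsCoatom (M.comap (T (F := F)))) := by
  by_cases hpH : p ∣ Nat.card (M.comap (T (F := F)))
  · have hpos : 0 < Nat.card (Sylow p (M.comap (T (F := F)))) := Nat.card_pos
    rcases Nat.lt_or_ge 1 (Nat.card (Sylow p (M.comap (T (F := F))))) with h1 | h1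
    · exact Or.inr (Or.inr (Or.inr (PGL2Sub.sub_case p hodd hM hML h1)))
    · exact Or.inl (PGL2Borel.borel_case p hodd h3 hM hML hpH (by omega))
  · rcases PSL2PPrime.classify_of_coprime p hodd (M.comap (T (F := F))) hpH with
      h | ⟨k, -, ⟨e⟩⟩ | ⟨⟨e⟩⟩ | ⟨⟨e⟩⟩ | ⟨⟨e⟩⟩
    · exact Or.inr (Or.inl (cyclic_case p hodd h3 hM hML hpH h.1))
    · exact Or.inr (Or.inl (dihedral_case p hodd h3 hM hML hpH k e))
    · exact Or.inr (Or.inr (Or.inl (PGL2A4.A4_case p hodd h3 hM hML hpH e)))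
    · exact (PGL2Exc.S4_case p hodd h3 hM hML e).elim
    · exfalso
      apply PGL2Exc.A5_case p hodd hM hML _ e
      rintro rfl
      apply hpH
      rw [Nat.card_congr e.toEquiv, PSL2PrimeMax.card_alt_five]
      norm_num

end Cfsg.Agent.Lib.H5.PGL2Main
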