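import Mathlib
import Cfsg.Agent.Lib.H5.PGL2.Main
import Cfsg.Agent.Lib.H5.PGL2.A4Max
import Cfsg.Agent.Lib.H5.PSL2DihExists

/-!
# Maximal subgroups of `PGL₂(q)`: the intersection with `PSL₂(q)` is maximal
-/

set_option autoImplicit false
set_option linter.style.haveILetI false

namespace Cfsg.Agent.Lib.H5.PGL2Inter

open Matrix Cfsg.Agent.Lib.H5.PSL2Torus Cfsg.Agent.Lib.H5.PGL2Basic Cfsg.Agent.Lib.H5.PGL2Ctx
  Cfsg.Agent.Lib.H5 Cfsg.Agent.Lib.H5.PGL2CycDih

variable {F : Type*} [Field F] [Fintype F]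

local notation "SL2" => Matrix.SpecialLinearGroup (Fin 2) F
local notation "M2" => Matrix (Fin 2) (Fin 2) F
local notation "PSL2" => Matrix.ProjectiveSpecialLinearGroup (Fin 2) F
local notation "PGL2" => Matrix.ProjGenLinGroup (Fin 2) F

omit [Fintype F] in
/-- transfer: maximality of `M ∩ L` in `L` -/
theorem isCoatom_inf_subgroupOf {M : Subgroup (Matrix.ProjGenLinGroup (Fin 2) F)}
    (h : IsCoatom (M.comap (T (F := F)))) :
    IsCoatom ((M ⊓ (T (F := F)).range).subgroupOf (T (F := F)).range) := by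
  obtain ⟨e, he⟩ : ∃ e : PSL2 ≃* (T (F := F)).range, ∀ y, ((e y : (T (F := F)).range) : PGL2) = T y :=
    ⟨MonoidHom.ofInjective T_injective, fun y => rfl⟩
  have heq : (M ⊓ (T (F := F)).range).subgroupOf (T (F := F)).range =
      (M.comap (T (F := F))).map e.toMonoidHom := by
    ext z
    rw [Subgroup.mem_subgroupOf, Subgroup.mem_map_equiv, Subgroup.mem_comap, Subgroup.mem_inf]
    have h1 : T (e.symm z) = (z : PGL2) := by
      rw [← he, MulEquiv.apply_symm_apply]
    rw [h1]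
    exact ⟨fun h => h.1, fun h => ⟨h, z.2⟩⟩
  rw [heq]
  exact PSL2MaxExc.isCoatom_map_equiv e h

/-- a generator of the lift of a split torus -/
theorem exists_split_generator (p : ℕ) [Fact p.Prime] [CharP F p] (hodd : Odd (Fintype.card F))
    (h13 : 13 ≤ Fintype.card F) {x : PSL2} (hx : IsRegSS x)
    (hc : 2 * Nat.card (tb x) = Fintype.card F - 1) :
    ∃ g : SL2, (g : M2).trace ^ 2 ≠ 4 ∧ torus g = tb x ∧ orderOf g = Fintype.card F - 1 := by
  have hpp : p.Prime := Fact.out
  obtain ⟨g₀, hg₀⟩ : ∃ g₀ : SL2, g₀ = Quotient.out x := ⟨_, rfl⟩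
  have htb : tb x = torus g₀ := by rw [hg₀]; rfl
  have ht₀ : (g₀ : M2).trace ^ 2 ≠ 4 := hx g₀ (by rw [hg₀]; exact pr_out x)
  haveI hcyc : IsCyclic (Subgroup.centralizer ({g₀} : Set SL2)) :=
    (Cfsg.Agent.Lib.H12.regular_centralizer hodd g₀ ht₀).1
  have hcard : Nat.card (Subgroup.centralizer ({g₀} : Set SL2)) = Fintype.card F - 1 := by
    rw [← PSL2DihOdd.two_mul_card_torus hodd g₀, ← htb]; exact hc
  obtain ⟨c, hcgen⟩ := IsCyclic.exists_generator (α := Subgroup.centralizer ({g₀} : Set SL2))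
  have hoc : orderOf c = Fintype.card F - 1 := by
    rw [orderOf_eq_card_of_forall_mem_zpowers hcgen, hcard]
  have hog : orderOf (c : SL2) = Fintype.card F - 1 := by
    rw [Subgroup.orderOf_coe, hoc]
  have hmem : pr (c : SL2) ∈ tb x := by
    rw [htb]; exact (pr_mem_torus_iff g₀ _).mpr c.2
  have hne : pr (c : SL2) ≠ 1 := by
    intro h1
    have h2 : pr (1 : SL2) = pr (c : SL2) := by rw [h1, map_one]
    have hcc : (c : SL2) * (c : SL2) = 1 := by
      rcases (pr_eq_pr_iff _ _).mp h2 with h | h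
      · rw [h]; simp
      · rw [h]; simp
    have : orderOf (c : SL2) ∣ 2 := by
      apply orderOf_dvd_of_pow_eq_one
      rw [pow_two]; exact hcc
    rw [hog] at this
    have := Nat.le_of_dvd (by norm_num) this
    omega
  have hnd : ¬ p ∣ orderOf (pr (c : SL2)) := by
    intro hd
    have h1 : p ∣ Fintype.card F - 1 := by
      rw [← hog]
      exact hd.trans (orderOf_map_dvd pr _)
    have h2 : p ∣ Fintype.card F := PSL2DihOddMax.char_dvd_card (F := F) p
    have h3 : p ∣ (Fintype.card F - 1) + 1 := by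
      rw [Nat.sub_add_cancel (by omega)]; exact h2
    have h4 : p ∣ 1 := (Nat.dvd_add_right h1).mp h3
    exact hpp.one_lt.ne' (Nat.dvd_one.mp h4)
  have hreg := PSL2PPrime.isRegSS_of_not_dvd p hne hnd
  refine ⟨(c : SL2), hreg _ rfl, ?_, hog⟩
  rw [← tb_pr]
  exact tb_eq_of_mem (PSL2DihOdd.isRegSS_ne_one hx) hne hmem

/-- **`M ∩ L` is maximal in `L`** -/
theorem isCoatom_comap (h4 : 4 ≤ Fintype.card F) (h7 : Fintype.card F ≠ 7)
    (h9 : Fintype.card F ≠ 9) (h11 : Fintype.card F ≠ 11)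
    (h40 : (Fintype.card F).Prime → Fintype.card F % 40 ∉ ({11, 19, 21, 29} : Finset ℕ))
    {M : Subgroup (Matrix.ProjGenLinGroup (Fin 2) F)} (hM : IsCoatom M)
    (hML : ¬ (T (F := F)).range ≤ M) : IsCoatom (M.comap (T (F := F))) := by
  rcases PSL2DihExists.even_or_odd_field (F := F) with h2 | hodd
  · -- characteristic `2`: `L = PGL₂`
    haveI := DicksonTwo.charP_two h2
    have hchar : ringChar F = 2 := ringChar.eq F 2
    have hroots : ∀ r : Fˣ, ∃ u : Fˣ, u ^ Fintype.card (Fin 2) = r := by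
      intro r
      obtain ⟨a, ha⟩ := FiniteField.isSquare_of_char_two hchar (r : F)
      have ha0 : a ≠ 0 := by
        intro h0
        rw [h0, mul_zero] at ha
        exact r.ne_zero ha
      refine ⟨Units.mk0 a ha0, ?_⟩
      apply Units.ext
      rw [Fintype.card_fin, Units.val_pow_eq_pow_val, Units.val_mk0, ha, pow_two]
    have hsurj := Matrix.ProjectiveSpecialLinearGroup.toPGL_surj_of_roots hroots
    obtain ⟨e', he'⟩ : ∃ e' : PSL2 ≃* PGL2, ∀ y, e' y = T y :=
      ⟨MulEquiv.ofBijective (T (F := F)) ⟨T_injective, hsurj⟩, fun y => rfl⟩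
    have heq : M.comap (T (F := F)) = M.map e'.symm.toMonoidHom := by
      ext y
      rw [Subgroup.mem_comap, Subgroup.mem_map_equiv, MulEquiv.symm_symm, he']
    rw [heq]
    exact PSL2MaxExc.isCoatom_map_equiv e'.symm hM
  · have h3 : 3 < Fintype.card F := by omega
    obtain ⟨p, hpc⟩ := CharP.exists F
    haveI := hpc
    haveI : Fact p.Prime := ⟨CharP.char_is_prime F p⟩
    have hHt := comap_ne_top (F := F) hML
    have h2F : (2 : F) ≠ 0 := Cfsg.Agent.Lib.H12.two_ne_zero_of_odd hodd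
    rcases PGL2Main.classify p hodd h3 hM hML with ⟨⟨P, hP⟩, -⟩ |
      ⟨x, hx, -, hH, ⟨hc, hq5, -⟩ | ⟨hc, -⟩⟩ | ⟨hprime, hmod, ⟨eM⟩, V, hVK, hHV⟩ | ⟨-, hco⟩
    · -- Borel
      refine ⟨hHt, fun K hlt => ?_⟩
      rw [hP] at hlt
      rcases PSL2Borel.le_normalizer_or_eq_top p P K (Subgroup.le_normalizer.trans hlt.le) with
        h | h
      · exact absurd h hlt.not_ge
      · exact h
    · -- split torus
      have h13 : 13 ≤ Fintype.card F := by
        obtain ⟨j, hj⟩ := hodd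
        omega
      obtain ⟨g, ht, htg, hog⟩ := exists_split_generator p hodd h13 hx hc
      rw [hH, ← htg]
      rw [← htg] at hc
      exact PSL2DihOddMax.isCoatom_normalizer hodd ht (Or.inr ⟨hc, h13, hog⟩)
    · -- non-split torus
      obtain ⟨g₀, hg₀⟩ : ∃ g₀ : SL2, g₀ = Quotient.out x := ⟨_, rfl⟩
      have htb : tb x = torus g₀ := by rw [hg₀]; rfl
      have ht₀ : (g₀ : M2).trace ^ 2 ≠ 4 := hx g₀ (by rw [hg₀]; exact pr_out x)
      rw [hH, htb]
      rw [htb] at hc
      exact PSL2DihOddMax.isCoatom_normalizer hodd ht₀ (Or.inl ⟨hc, h7, h9⟩)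
    · -- `A₄`
      have hcM : Nat.card M = 24 := by
        rw [Nat.card_congr eM.toEquiv, PSL2PrimeMax.card_perm_four]
      have hcH : Nat.card (M.comap (T (F := F))) = 12 := by
        have := card_eq hodd hM hML
        omega
      have h12 : Nat.card (Subgroup.normalizer (V : Set PSL2)) = 12 := by rw [← hHV, hcH]
      obtain ⟨e⟩ := PSL2KleinNorm.normalizer_equiv_A4 V hVK
        (PSL2KleinNorm.centralizer_klein_eq h2F V hVK).le h12
      have hq : Fintype.card F = p := (PSL2DihOddMax.char_eq_of_card_prime p hprime rfl).symm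
      exact PGL2A4Max.isCoatom_of_A4 p hodd hq hmod (h40 hprime) _
        ((MulEquiv.subgroupCongr hHV).trans e) hHt
    · exact hco

end Cfsg.Agent.Lib.H5.PGL2Inter
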